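import Mathlib
import Groth.Agent.H35.DerComplete

/-!
# Elementary facts on `Φ_f = 1 - f·shift` on `ℕ → H`
-/

set_option autoImplicit false
universe u

namespace Groth.Agent.H9.DC

open Groth.Agent.H35

variable {A : Type*} [CommRing A] (f : A) {H : Type*} [AddCommGroup H] [Module A H]

/-- the shift of sequences -/
def shiftS (m : ℕ → H) : ℕ → H := fun n => m (n + 1)

lemma Phi_shiftS (m : ℕ → H) : Phi f H (shiftS m) = shiftS (Phi f H m) := by
  funext n
  simp only [Phi_apply, shiftS]

lemma eq_smul_shiftS_add_Phi (m : ℕ → H) : m = f • shiftS m + Phi f H m := by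
  funext n
  simp only [Pi.add_apply, Pi.smul_apply, Phi_apply, shiftS]
  abel

/-- `f` is injective on `ker Φ` -/
lemma eq_zero_of_Phi_eq_zero_of_smul_eq_zero (m : ℕ → H) (h : Phi f H m = 0) (h0 : f • m = 0) :
    m = 0 := by
  funext n
  have h1 : m n - f • m (n + 1) = 0 := by
    have := congrFun h n
    rwa [Phi_apply] at this
  have h2 : f • m (n + 1) = 0 := congrFun h0 (n + 1)
  rw [h2, sub_zero] at h1
  exact h1

/-- `f` is surjective on `ker Φ` -/
lemma exists_smul_eq_of_Phi_eq_zero (m : ℕ → H) (h : Phi f H m = 0) :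
    ∃ m' : ℕ → H, Phi f H m' = 0 ∧ f • m' = m := by
  refine ⟨shiftS m, ?_, ?_⟩
  · rw [Phi_shiftS, h]; rfl
  · have := eq_smul_shiftS_add_Phi f m
    rw [h, add_zero] at this
    exact this.symm

/-- `f` is injective on `coker Φ` -/
lemma mem_range_Phi_of_smul_mem (b c : ℕ → H) (h : f • b = Phi f H c) :
    ∃ c' : ℕ → H, b = Phi f H c' := by
  refine ⟨shiftS c + b, ?_⟩
  rw [map_add, Phi_shiftS, ← h]
  have := eq_smul_shiftS_add_Phi f b
  have e : shiftS (f • b) = f • shiftS b := rfl
  rw [e]
  exact this

/-- if `f` is injective on `H`, an element of `ker Φ` with vanishing zeroth entry is zero -/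
lemma eq_zero_of_Phi_eq_zero_of_zero (hf : Function.Injective (fun x : H => f • x))
    (m : ℕ → H) (h : Phi f H m = 0) (h0 : m 0 = 0) : m = 0 := by
  have key : ∀ n, m n = 0 := by
    intro n
    induction n with
    | zero => exact h0
    | succ n ih =>
      have h1 : m n - f • m (n + 1) = 0 := by
        have := congrFun h n
        rwa [Phi_apply] at this
      rw [ih, zero_sub, neg_eq_zero] at h1
      apply hf
      show f • m (n + 1) = f • (0 : H)
      rw [h1, smul_zero]
  funext n
  exact key n

/-- if `f` is surjective on `H` then `Φ` is surjective -/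
lemma Phi_surjective_of_surjective (hf : Function.Surjective (fun x : H => f • x)) :
    Function.Surjective (Phi f H) := by
  intro b
  choose g hg using hf
  -- m 0 = 0, m (n+1) = g (m n - b n)
  let m : ℕ → H := fun n => Nat.rec (0 : H) (fun k prev => g (prev - b k)) n
  refine ⟨m, ?_⟩
  funext n
  rw [Phi_apply]
  have : m (n + 1) = g (m n - b n) := rfl
  rw [this]
  have := hg (m n - b n)
  simp only at this
  rw [this]
  abel

end Groth.Agent.H9.DC
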