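import Mathlib
import Groth.Agent.H9.DC.PhiMod

/-!
# Completion with respect to an element in a linear triangulated category with countable powers

Let `T` be an `A`-linear pretriangulated category and `f : A`.  `Inv f` is the class of objects on which
`f` acts invertibly and `Perp f` its right orthogonal.  If `X` has a countable power `P = X^ℕ`
(`PowData X`), we construct `η : X ⟶ C` with `C ∈ Perp f` and cone in `Inv f`; hence `η` is the universal
map from `X` to `Perp f`.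
-/

set_option autoImplicit false
universe w v u

open CategoryTheory CategoryTheory.Limits CategoryTheory.Pretriangulated

namespace Groth.Agent.H9.DC

open Groth.Agent.H35

variable {A : Type w} [CommRing A]
  {T : Type u} [Category.{v} T] [Preadditive T] [Linear A T] [HasZeroObject T] [HasShift T ℤ]
  [∀ n : ℤ, (shiftFunctor T n).Additive] [∀ n : ℤ, (shiftFunctor T n).Linear A]
  [Pretriangulated T]

/-- objects on which `f` acts invertibly -/
def Inv (f : A) : ObjectProperty T := fun N => IsIso (f • 𝟙 N)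

/-- the right orthogonal of `Inv f` -/
def Perp (f : A) : ObjectProperty T := fun M => ∀ N : T, Inv f N → ∀ a : N ⟶ M, a = 0

lemma shift_smul_id (X : T) (a : A) (n : ℤ) : (a • 𝟙 X)⟦n⟧' = a • 𝟙 (X⟦n⟧) := by
  rw [Functor.map_smul, CategoryTheory.Functor.map_id]

lemma Inv.shift {f : A} {N : T} (h : Inv f N) (n : ℤ) : Inv f (N⟦n⟧) := by
  unfold Inv at h ⊢
  rw [← shift_smul_id]
  infer_instance

lemma smul_eq_comp {N X : T} (f : A) (a : N ⟶ X) : f • a = (f • 𝟙 N) ≫ a := by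
  rw [Linear.smul_comp, Category.id_comp]

lemma Inv.smul_bijective {f : A} {N : T} (h : Inv f N) (X : T) :
    Function.Bijective (fun a : N ⟶ X => f • a) := by
  haveI : IsIso (f • 𝟙 N) := h
  constructor
  · intro a a' haa
    have haa' : (f • 𝟙 N) ≫ a = (f • 𝟙 N) ≫ a' := by
      rw [← smul_eq_comp, ← smul_eq_comp]; exact haa
    exact (cancel_epi _).1 haa'
  · intro a
    refine ⟨inv (f • 𝟙 N) ≫ a, ?_⟩
    show f • (inv (f • 𝟙 N) ≫ a) = a
    rw [smul_eq_comp, IsIso.hom_inv_id_assoc]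

lemma Perp.shift {f : A} {M : T} (h : Perp f M) (n : ℤ) : Perp f (M⟦n⟧) := by
  intro N hN a
  have h1 : a⟦-n⟧' ≫ (shiftShiftNeg M n).hom = 0 := h _ (hN.shift (-n)) _
  have h2 : a⟦-n⟧' = 0 := by
    have := (cancel_mono (shiftShiftNeg M n).hom).1 (h1.trans zero_comp.symm)
    exact this
  exact (shiftFunctor T (-n)).map_injective (h2.trans (Functor.map_zero _ _ _).symm)

section Exact

variable {X Y Z : T} (f : X ⟶ Y) (g : Y ⟶ Z) (h : Z ⟶ X⟦(1 : ℤ)⟧)
  (hT : Triangle.mk f g h ∈ distTriang T)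

include hT

lemma zero₁₂ : f ≫ g = 0 := comp_distTriang_mor_zero₁₂ _ hT
lemma zero₂₃ : g ≫ h = 0 := comp_distTriang_mor_zero₂₃ _ hT
lemma zero₃₁ : h ≫ f⟦(1 : ℤ)⟧' = 0 := comp_distTriang_mor_zero₃₁ _ hT

lemma exact₂ {N : T} (a : N ⟶ Y) (ha : a ≫ g = 0) : ∃ b : N ⟶ X, a = b ≫ f :=
  Triangle.coyoneda_exact₂ _ hT a ha

lemma exact₃ {N : T} (a : N ⟶ Z) (ha : a ≫ h = 0) : ∃ b : N ⟶ Y, a = b ≫ g :=
  Triangle.coyoneda_exact₃ _ hT a ha

lemma exact₁ {N : T} (a : N ⟶ X⟦(1 : ℤ)⟧) (ha : a ≫ f⟦(1 : ℤ)⟧' = 0) : ∃ b : N ⟶ Z, a = b ≫ h :=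
  Triangle.coyoneda_exact₁ _ hT a ha

lemma yexact₂ {M : T} (a : Y ⟶ M) (ha : f ≫ a = 0) : ∃ b : Z ⟶ M, a = g ≫ b :=
  Triangle.yoneda_exact₂ _ hT a ha

end Exact

lemma Perp.of_triangle {f : A} (Tr : Triangle T) (hT : Tr ∈ distTriang T) (h₂ : Perp f Tr.obj₂)
    (h₁ : Perp f (Tr.obj₁⟦(1 : ℤ)⟧)) : Perp f Tr.obj₃ := by
  intro N hN w
  obtain ⟨v, hv⟩ := Triangle.coyoneda_exact₃ Tr hT w (h₁ N hN _)
  rw [hv, h₂ N hN v, zero_comp]

/-- a countable power of `X` -/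
structure PowData (X : T) where
  P : T
  π : ℕ → (P ⟶ X)
  bij : ∀ N : T, Function.Bijective (fun (φ : N ⟶ P) (k : ℕ) => φ ≫ π k)

namespace PowData

variable {X : T} (D : PowData X)

noncomputable def lift {N : T} (b : ℕ → (N ⟶ X)) : N ⟶ D.P := ((D.bij N).surjective b).choose

lemma lift_π {N : T} (b : ℕ → (N ⟶ X)) (k : ℕ) : D.lift b ≫ D.π k = b k :=
  congrFun ((D.bij N).surjective b).choose_spec k

lemma hom_ext {N : T} {φ ψ : N ⟶ D.P} (h : ∀ k, φ ≫ D.π k = ψ ≫ D.π k) : φ = ψ :=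
  (D.bij N).injective (funext h)

/-- `Φ = 1 - f·shift` on the power -/
noncomputable def Φ (f : A) : D.P ⟶ D.P := D.lift (fun k => D.π k - f • D.π (k + 1))

lemma Φ_π (f : A) (k : ℕ) : D.Φ f ≫ D.π k = D.π k - f • D.π (k + 1) := D.lift_π _ k

/-- coordinates of a morphism to the power -/
def coord {N : T} (φ : N ⟶ D.P) : ℕ → (N ⟶ X) := fun k => φ ≫ D.π k

lemma coord_injective {N : T} : Function.Injective (D.coord (N := N)) := (D.bij N).injective

lemma coord_lift {N : T} (b : ℕ → (N ⟶ X)) : D.coord (D.lift b) = b := funext (D.lift_π b)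

lemma coord_comp_Φ (f : A) {N : T} (φ : N ⟶ D.P) :
    D.coord (φ ≫ D.Φ f) = Phi f (N ⟶ X) (D.coord φ) := by
  funext k
  simp only [coord, Phi_apply, Category.assoc, Φ_π, Preadditive.comp_sub, Linear.comp_smul]

lemma coord_smul (f : A) {N : T} (φ : N ⟶ D.P) : D.coord (f • φ) = f • D.coord φ := by
  funext k
  simp only [coord, Pi.smul_apply, Linear.smul_comp]

lemma coord_zero {N : T} : D.coord (0 : N ⟶ D.P) = 0 := by
  funext k
  simp only [coord, zero_comp, Pi.zero_apply]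

lemma eq_zero_of_coord {N : T} (φ : N ⟶ D.P) (h : D.coord φ = 0) : φ = 0 :=
  D.coord_injective (h.trans D.coord_zero.symm)

/-- the power of `X⟦1⟧` -/
noncomputable def shift : PowData (X⟦(1 : ℤ)⟧) where
  P := D.P⟦(1 : ℤ)⟧
  π k := (D.π k)⟦(1 : ℤ)⟧'
  bij N := by
    let e : (N⟦-(1 : ℤ)⟧)⟦(1 : ℤ)⟧ ≅ N := shiftNegShift N 1
    constructor
    · intro φ φ' h
      obtain ⟨ψ, hψ⟩ := (shiftFunctor T (1 : ℤ)).map_surjective (e.hom ≫ φ)
      obtain ⟨ψ', hψ'⟩ := (shiftFunctor T (1 : ℤ)).map_surjective (e.hom ≫ φ')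
      have : ψ = ψ' := by
        apply D.hom_ext
        intro k
        apply (shiftFunctor T (1 : ℤ)).map_injective
        rw [Functor.map_comp, Functor.map_comp, hψ, hψ', Category.assoc, Category.assoc]
        exact congrArg (fun t => e.hom ≫ t) (congrFun h k)
      have h2 : e.hom ≫ φ = e.hom ≫ φ' := by rw [← hψ, ← hψ', this]
      exact (cancel_epi e.hom).1 h2
    · intro b
      have hc : ∀ k, ∃ c : N⟦-(1 : ℤ)⟧ ⟶ X, c⟦(1 : ℤ)⟧' = e.hom ≫ b k :=
        fun k => (shiftFunctor T (1 : ℤ)).map_surjective _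
      choose c hc using hc
      refine ⟨e.inv ≫ (D.lift c)⟦(1 : ℤ)⟧', ?_⟩
      funext k
      show (e.inv ≫ (D.lift c)⟦(1 : ℤ)⟧') ≫ (D.π k)⟦(1 : ℤ)⟧' = b k
      rw [Category.assoc, ← Functor.map_comp, D.lift_π, hc, Iso.inv_hom_id_assoc]

lemma shift_Φ (f : A) : D.shift.Φ f = (D.Φ f)⟦(1 : ℤ)⟧' := by
  apply D.shift.hom_ext
  intro k
  rw [Φ_π]
  show _ = (D.Φ f)⟦(1 : ℤ)⟧' ≫ (D.π k)⟦(1 : ℤ)⟧'
  rw [← CategoryTheory.Functor.map_comp, Φ_π, Functor.map_sub, Functor.map_smul]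
  rfl

/-- coordinates of a morphism to the shifted power -/
def scoord {N : T} (φ : N ⟶ D.P⟦(1 : ℤ)⟧) : ℕ → (N ⟶ X⟦(1 : ℤ)⟧) :=
  fun k => φ ≫ (D.π k)⟦(1 : ℤ)⟧'

noncomputable def slift {N : T} (b : ℕ → (N ⟶ X⟦(1 : ℤ)⟧)) : N ⟶ D.P⟦(1 : ℤ)⟧ := D.shift.lift b

lemma slift_π {N : T} (b : ℕ → (N ⟶ X⟦(1 : ℤ)⟧)) (k : ℕ) :
    D.slift b ≫ (D.π k)⟦(1 : ℤ)⟧' = b k := D.shift.lift_π b k

lemma scoord_slift {N : T} (b : ℕ → (N ⟶ X⟦(1 : ℤ)⟧)) : D.scoord (D.slift b) = b :=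
  funext (D.slift_π b)

lemma scoord_comp_Φ (f : A) {N : T} (φ : N ⟶ D.P⟦(1 : ℤ)⟧) :
    D.scoord (φ ≫ (D.Φ f)⟦(1 : ℤ)⟧') = Phi f (N ⟶ X⟦(1 : ℤ)⟧) (D.scoord φ) := by
  have := D.shift.coord_comp_Φ f φ
  rw [D.shift_Φ] at this
  exact this

lemma scoord_smul (f : A) {N : T} (φ : N ⟶ D.P⟦(1 : ℤ)⟧) :
    D.scoord (f • φ) = f • D.scoord φ := D.shift.coord_smul f φ

lemma scoord_zero {N : T} : D.scoord (0 : N ⟶ D.P⟦(1 : ℤ)⟧) = 0 := D.shift.coord_zero

lemma eq_zero_of_scoord {N : T} (φ : N ⟶ D.P⟦(1 : ℤ)⟧) (h : D.scoord φ = 0) : φ = 0 :=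
  D.shift.eq_zero_of_coord φ h

end PowData

section Main

variable {X : T} (D : PowData X) (f : A) {Z : T} (j : D.P ⟶ Z) (δ : Z ⟶ D.P⟦(1 : ℤ)⟧)
  (hT₁ : Triangle.mk (D.Φ f) j δ ∈ distTriang T)

include hT₁

lemma Phi_scoord_comp_δ {N : T} (a : N ⟶ Z) :
    Phi f (N ⟶ X⟦(1 : ℤ)⟧) (D.scoord (a ≫ δ)) = 0 := by
  rw [← D.scoord_comp_Φ, Category.assoc, zero₃₁ _ _ _ hT₁, comp_zero, D.scoord_zero]

/-- `f` is invertible on the cone of `Φ` -/
theorem inv_cone : Inv f Z := by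
  unfold Inv
  rw [isIso_iff_yoneda_map_bijective]
  intro N
  constructor
  · intro a a' haa
    have h0 : (a - a') ≫ (f • 𝟙 Z) = 0 := by
      rw [Preadditive.sub_comp]; exact sub_eq_zero.2 haa
    have h0' : f • (a - a') = 0 := by
      rw [Linear.comp_smul, Category.comp_id] at h0; exact h0
    have h1 : (a - a') ≫ δ = 0 := by
      apply D.eq_zero_of_scoord
      apply eq_zero_of_Phi_eq_zero_of_smul_eq_zero f _ (Phi_scoord_comp_δ D f j δ hT₁ _)
      rw [← D.scoord_smul, ← Linear.smul_comp, h0', zero_comp, D.scoord_zero]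
    obtain ⟨b, hb⟩ := exact₃ _ _ _ hT₁ (a - a') h1
    have h2 : (f • b) ≫ j = 0 := by rw [Linear.smul_comp, ← hb, h0']
    obtain ⟨c, hc⟩ := exact₂ _ _ _ hT₁ (f • b) h2
    have h3 : f • D.coord b = Phi f (N ⟶ X) (D.coord c) := by
      rw [← D.coord_smul, hc, D.coord_comp_Φ]
    obtain ⟨c', hc'⟩ := mem_range_Phi_of_smul_mem f _ _ h3
    have h4 : b = D.lift c' ≫ D.Φ f := by
      apply D.coord_injective
      rw [D.coord_comp_Φ, D.coord_lift, hc']
    have h5 : a - a' = 0 := by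
      rw [hb, h4, Category.assoc, zero₁₂ _ _ _ hT₁, comp_zero]
    exact sub_eq_zero.1 h5
  · intro a
    obtain ⟨m', hm'1, hm'2⟩ := exists_smul_eq_of_Phi_eq_zero f _ (Phi_scoord_comp_δ D f j δ hT₁ a)
    have h1 : D.slift m' ≫ (D.Φ f)⟦(1 : ℤ)⟧' = 0 := by
      apply D.eq_zero_of_scoord
      rw [D.scoord_comp_Φ, D.scoord_slift, hm'1]
    obtain ⟨a', ha'⟩ := exact₁ _ _ _ hT₁ (D.slift m') h1
    have h2 : (a - f • a') ≫ δ = 0 := by
      apply D.eq_zero_of_scoord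
      rw [Preadditive.sub_comp, Linear.smul_comp, ← ha']
      funext k
      show (a ≫ δ - f • D.slift m') ≫ (D.π k)⟦(1 : ℤ)⟧' = 0
      rw [Preadditive.sub_comp, Linear.smul_comp, D.slift_π]
      have := congrFun hm'2 k
      simp only [Pi.smul_apply] at this
      rw [this]
      exact sub_self _
    obtain ⟨b, hb⟩ := exact₃ _ _ _ hT₁ (a - f • a') h2
    have h3 := eq_smul_shiftS_add_Phi f (D.coord b)
    have h4 : b = f • D.lift (shiftS (D.coord b)) + b ≫ D.Φ f := by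
      apply D.coord_injective
      funext k
      have := congrFun h3 k
      simp only [Pi.add_apply, Pi.smul_apply] at this
      show b ≫ D.π k = (f • D.lift (shiftS (D.coord b)) + b ≫ D.Φ f) ≫ D.π k
      rw [Preadditive.add_comp, Linear.smul_comp, D.lift_π]
      have e2 : (b ≫ D.Φ f) ≫ D.π k = Phi f (N ⟶ X) (D.coord b) k :=
        congrFun (D.coord_comp_Φ f b) k
      rw [e2]
      exact this
    have h5 : b ≫ j = f • (D.lift (shiftS (D.coord b)) ≫ j) := by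
      conv_lhs => rw [h4]
      rw [Preadditive.add_comp, Category.assoc, zero₁₂ _ _ _ hT₁, comp_zero, add_zero,
        Linear.smul_comp]
    refine ⟨a' + D.lift (shiftS (D.coord b)) ≫ j, ?_⟩
    show (a' + D.lift (shiftS (D.coord b)) ≫ j) ≫ (f • 𝟙 Z) = a
    rw [Linear.comp_smul, Category.comp_id, smul_add, ← h5, ← hb]
    abel

/-- for `N` with `f` invertible, `Hom(N, Z) → Hom(N, X⟦1⟧)` is bijective -/
theorem bijective_comp_ε {N : T} (hN : Inv f N) :
    Function.Bijective (fun a : N ⟶ Z => a ≫ δ ≫ (D.π 0)⟦(1 : ℤ)⟧') := by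
  constructor
  · intro a a' haa
    have h0 : (a - a') ≫ δ ≫ (D.π 0)⟦(1 : ℤ)⟧' = 0 := by
      rw [Preadditive.sub_comp]; exact sub_eq_zero.2 haa
    have h1 : (a - a') ≫ δ = 0 := by
      apply D.eq_zero_of_scoord
      apply eq_zero_of_Phi_eq_zero_of_zero f (hN.smul_bijective _).injective _
        (Phi_scoord_comp_δ D f j δ hT₁ _)
      show ((a - a') ≫ δ) ≫ (D.π 0)⟦(1 : ℤ)⟧' = 0
      rw [Category.assoc]; exact h0
    obtain ⟨b, hb⟩ := exact₃ _ _ _ hT₁ (a - a') h1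
    obtain ⟨c, hc⟩ := Phi_surjective_of_surjective f (hN.smul_bijective X).surjective (D.coord b)
    have h4 : b = D.lift c ≫ D.Φ f := by
      apply D.coord_injective
      rw [D.coord_comp_Φ, D.coord_lift, hc]
    have h5 : a - a' = 0 := by
      rw [hb, h4, Category.assoc, zero₁₂ _ _ _ hT₁, comp_zero]
    exact sub_eq_zero.1 h5
  · intro x
    haveI : IsIso (f • 𝟙 N) := hN
    let v : N ⟶ N := inv (f • 𝟙 N)
    have hv : ∀ y : N ⟶ X⟦(1 : ℤ)⟧, f • (v ≫ y) = y := by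
      intro y
      rw [smul_eq_comp, IsIso.hom_inv_id_assoc]
    let m : ℕ → (N ⟶ X⟦(1 : ℤ)⟧) := fun n => Nat.rec x (fun _ prev => v ≫ prev) n
    have hm : Phi f _ m = 0 := by
      funext n
      rw [Phi_apply]
      have : m (n + 1) = v ≫ m n := rfl
      rw [this, hv, sub_self]
      rfl
    have h1 : D.slift m ≫ (D.Φ f)⟦(1 : ℤ)⟧' = 0 := by
      apply D.eq_zero_of_scoord
      rw [D.scoord_comp_Φ, D.scoord_slift, hm]
    obtain ⟨a, ha⟩ := exact₁ _ _ _ hT₁ (D.slift m) h1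
    refine ⟨a, ?_⟩
    show a ≫ δ ≫ (D.π 0)⟦(1 : ℤ)⟧' = x
    rw [← Category.assoc, ← ha]
    exact D.slift_π m 0

omit hT₁ in
/-- the power of an object of `Perp g` is in `Perp g` -/
lemma perp_pow (g : A) (hX : Perp g X) : Perp g D.P := by
  intro N hN a
  apply D.eq_zero_of_coord
  funext k
  exact hX N hN _

variable {C : T} (η : X ⟶ C) (β : C ⟶ Z)
  (hT₂ : Triangle.mk η β (δ ≫ (D.π 0)⟦(1 : ℤ)⟧') ∈ distTriang T)

include hT₂

/-- the completion lies in `Perp f` -/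
theorem perp_completion : Perp f C := by
  intro N hN c
  have h1 : c ≫ β = 0 := by
    apply (bijective_comp_ε D f j δ hT₁ hN).injective
    show (c ≫ β) ≫ δ ≫ (D.π 0)⟦(1 : ℤ)⟧' = 0 ≫ δ ≫ (D.π 0)⟦(1 : ℤ)⟧'
    rw [Category.assoc, zero₂₃ _ _ _ hT₂, comp_zero, zero_comp]
  obtain ⟨x, hx⟩ := exact₂ _ _ _ hT₂ c h1
  obtain ⟨a, ha⟩ := (bijective_comp_ε D f j δ hT₁ (hN.shift 1)).surjective (x⟦(1 : ℤ)⟧')
  have h2 : (x ≫ η)⟦(1 : ℤ)⟧' = 0 := by
    rw [CategoryTheory.Functor.map_comp, ← ha]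
    show (a ≫ δ ≫ (D.π 0)⟦(1 : ℤ)⟧') ≫ η⟦(1 : ℤ)⟧' = 0
    rw [Category.assoc, zero₃₁ _ _ _ hT₂, comp_zero]
  rw [hx]
  exact (shiftFunctor T (1 : ℤ)).map_injective (h2.trans (Functor.map_zero _ _ _).symm)

/-- the completion inherits orthogonality with respect to other elements -/
theorem perp_completion_of_perp (g : A) (hX : Perp g X) : Perp g C := by
  have hP : Perp g D.P := perp_pow D g hX
  have hZ : Perp g Z := Perp.of_triangle _ hT₁ hP (hP.shift 1)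
  intro N hN c
  have h1 : c ≫ β = 0 := hZ N hN _
  obtain ⟨x, hx⟩ := exact₂ _ _ _ hT₂ c h1
  rw [hx, hX N hN x, zero_comp]

/-- universal property of the completion -/
theorem completion_universal {M : T} (hM : Perp f M) (h : X ⟶ M) : ∃! g : C ⟶ M, η ≫ g = h := by
  have hZ : Inv f Z := inv_cone D f j δ hT₁
  have hT₃ := inv_rot_of_distTriang _ hT₂
  have h0 : (Triangle.mk η β (δ ≫ (D.π 0)⟦(1 : ℤ)⟧')).invRotate.mor₁ ≫ h = 0 :=
    hM _ (hZ.shift (-1)) _
  obtain ⟨g0, hg0⟩ := Triangle.yoneda_exact₂ _ hT₃ h h0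
  let g : C ⟶ M := g0
  have hg : h = η ≫ g := hg0
  refine ⟨g, hg.symm, ?_⟩
  intro g' hg'
  have h1 : η ≫ (g' - g) = 0 := by
    rw [Preadditive.comp_sub, hg']
    exact sub_eq_zero.2 hg
  obtain ⟨z, hz⟩ := yexact₂ _ _ _ hT₂ (g' - g) h1
  rw [hM Z hZ z, comp_zero] at hz
  exact sub_eq_zero.1 hz

end Main


section More

lemma Perp.of_iso {f : A} {M M' : T} (e : M ≅ M') (h : Perp f M) : Perp f M' := by
  intro N hN a
  have h1 : a ≫ e.inv = 0 := h N hN _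
  have := (cancel_mono e.inv).1 (h1.trans zero_comp.symm)
  exact this

lemma Inv.of_iso {f : A} {N N' : T} (e : N ≅ N') (h : Inv f N) : Inv f N' := by
  unfold Inv at h ⊢
  have : f • 𝟙 N' = e.inv ≫ (f • 𝟙 N) ≫ e.hom := by
    rw [Linear.smul_comp, Linear.comp_smul, Category.id_comp, e.inv_hom_id]
  rw [this]
  infer_instance

/-- if `Φ` is an isomorphism on the power of `M` then `M ∈ Perp f` -/
theorem perp_of_isIso_Φ {M : T} (D : PowData M) (f : A) (h : IsIso (D.Φ f)) : Perp f M := by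
  intro N hN a
  haveI : IsIso (f • 𝟙 N) := hN
  let v : N ⟶ N := inv (f • 𝟙 N)
  have hv : ∀ y : N ⟶ M, f • (v ≫ y) = y := by
    intro y
    rw [smul_eq_comp, IsIso.hom_inv_id_assoc]
  let m : ℕ → (N ⟶ M) := fun n => Nat.rec a (fun _ prev => v ≫ prev) n
  have hm : Phi f _ m = 0 := by
    funext n
    rw [Phi_apply]
    have : m (n + 1) = v ≫ m n := rfl
    rw [this, hv, sub_self]
    rfl
  have h1 : D.lift m ≫ D.Φ f = 0 := by
    apply D.eq_zero_of_coord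
    rw [D.coord_comp_Φ, D.coord_lift, hm]
  have h2 : D.lift m = 0 := (cancel_mono (D.Φ f)).1 (h1.trans zero_comp.symm)
  have h3 : a = D.lift m ≫ D.π 0 := (D.lift_π m 0).symm
  rw [h3, h2, zero_comp]


/-- transport of powers along isomorphisms -/
noncomputable def PowData.ofIso {X X' : T} (D : PowData X) (e : X ≅ X') :
    PowData X' where
  P := D.P
  π k := D.π k ≫ e.hom
  bij N := by
    constructor
    · intro φ φ' h
      apply D.hom_ext
      intro k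
      have := congrFun h k
      simp only [← Category.assoc] at this
      exact (cancel_mono e.hom).1 this
    · intro b
      refine ⟨D.lift (fun k => b k ≫ e.inv), ?_⟩
      funext k
      show D.lift (fun k => b k ≫ e.inv) ≫ D.π k ≫ e.hom = b k
      rw [← Category.assoc, D.lift_π, Category.assoc, e.inv_hom_id, Category.comp_id]

end More

end Groth.Agent.H9.DC
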