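import Mathlib
import Groth.Agent.H9.DC.Abstract

/-!
# Iterating the one-element completion; reflectivity of the orthogonal subcategory
-/

set_option autoImplicit false
universe w v u

open CategoryTheory CategoryTheory.Limits CategoryTheory.Pretriangulated

namespace Groth.Agent.H9.DC

variable {A : Type w} [CommRing A]
  {T : Type u} [Category.{v} T] [Preadditive T] [Linear A T] [HasZeroObject T] [HasShift T ℤ]
  [∀ n : ℤ, (shiftFunctor T n).Additive] [∀ n : ℤ, (shiftFunctor T n).Linear A]
  [Pretriangulated T]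

/-- orthogonality with respect to all elements of a list -/
def PerpL (fs : List A) : ObjectProperty T := fun M => ∀ f ∈ fs, Perp f M

/-- existence of the completion with respect to a finite list of elements -/
theorem exists_completion (hP : ∀ X : T, Nonempty (PowData X)) (fs : List A) (X : T) :
    ∃ (C : T) (η : X ⟶ C), PerpL fs C ∧
      ∀ M : T, PerpL fs M → ∀ h : X ⟶ M, ∃! g : C ⟶ M, η ≫ g = h := by
  induction fs with
  | nil =>
    refine ⟨X, 𝟙 X, fun f hf => absurd hf (List.not_mem_nil), fun M _ h => ⟨h, Category.id_comp h, ?_⟩⟩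
    intro g hg
    rw [← hg, Category.id_comp]
  | cons f fs ih =>
    obtain ⟨C₁, η₁, hC₁, hu₁⟩ := ih
    obtain ⟨D⟩ := hP C₁
    obtain ⟨Z, j, δ, hT₁⟩ := distinguished_cocone_triangle (D.Φ f)
    obtain ⟨C, η, β, hT₂⟩ := distinguished_cocone_triangle₂ (δ ≫ (D.π 0)⟦(1 : ℤ)⟧')
    refine ⟨C, η₁ ≫ η, ?_, ?_⟩
    · intro g hg
      rcases List.mem_cons.1 hg with rfl | hg'
      · exact perp_completion D g j δ hT₁ η β hT₂
      · exact perp_completion_of_perp D f j δ hT₁ η β hT₂ g (hC₁ g hg')
    · intro M hM h
      obtain ⟨g₁, hg₁, hg₁u⟩ := hu₁ M (fun g hg => hM g (List.mem_cons_of_mem _ hg)) h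
      obtain ⟨g, hg, hgu⟩ := completion_universal D f j δ hT₁ η β hT₂
        (hM f List.mem_cons_self) g₁
      refine ⟨g, ?_, ?_⟩
      · show (η₁ ≫ η) ≫ g = h
        rw [Category.assoc, hg, hg₁]
      · intro g' hg'
        apply hgu
        apply hg₁u
        show η₁ ≫ η ≫ g' = h
        rw [← Category.assoc]; exact hg'

/-- a full subcategory into which every object has a universal arrow is reflective -/
theorem isRightAdjoint_ι_of_universal (P : ObjectProperty T)
    (h : ∀ X : T, ∃ (C : T) (η : X ⟶ C), P C ∧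
      ∀ M : T, P M → ∀ h : X ⟶ M, ∃! g : C ⟶ M, η ≫ g = h) :
    P.ι.IsRightAdjoint := by
  rw [isRightAdjoint_iff_hasInitial_structuredArrow]
  intro X
  obtain ⟨C, η, hC, hu⟩ := h X
  let C' : P.FullSubcategory := ⟨C, hC⟩
  let η' : X ⟶ P.ι.obj C' := η
  have hI : IsInitial (StructuredArrow.mk η') := by
    refine IsInitial.ofUniqueHom (fun Y => ?_) (fun Y m => ?_)
    · have hw : η' ≫ P.ι.map (ObjectProperty.homMk (X := C')
          (hu Y.right.obj Y.right.property Y.hom).choose) = Y.hom :=
        (hu Y.right.obj Y.right.property Y.hom).choose_spec.1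
      exact StructuredArrow.homMk (ObjectProperty.homMk (X := C')
        (hu Y.right.obj Y.right.property Y.hom).choose) hw
    · apply StructuredArrow.ext
      apply ObjectProperty.hom_ext
      have hw : η ≫ m.right.hom = Y.hom := StructuredArrow.w m
      exact (hu Y.right.obj Y.right.property Y.hom).choose_spec.2 m.right.hom hw
  exact hI.hasInitial

end Groth.Agent.H9.DC
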