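import Mathlib
import Groth.Agent.H9.DC.Reflect

/-!
# Vanishing of `Hom(G, C⟦i⟧)` for the completion `C` of `X`
-/

set_option autoImplicit false
universe w v u

open CategoryTheory CategoryTheory.Limits CategoryTheory.Pretriangulated

namespace Groth.Agent.H9.DC

variable {A : Type w} [CommRing A]
  {T : Type u} [Category.{v} T] [Preadditive T] [Linear A T] [HasZeroObject T] [HasShift T ℤ]
  [∀ n : ℤ, (shiftFunctor T n).Additive] [∀ n : ℤ, (shiftFunctor T n).Linear A]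
  [Pretriangulated T]

omit [Linear A T] [∀ n : ℤ, (shiftFunctor T n).Linear A] [Pretriangulated T] [HasZeroObject T]
  [∀ n : ℤ, (shiftFunctor T n).Additive] [Preadditive T] in
lemma subsingleton_hom_negShift_iff (G Y : T) (i : ℤ) :
    Subsingleton (G⟦-i⟧ ⟶ Y) ↔ Subsingleton (G ⟶ Y⟦i⟧) := by
  constructor
  · intro h
    refine ⟨fun b b' => ?_⟩
    have h1 : b⟦-i⟧' ≫ (shiftShiftNeg Y i).hom = b'⟦-i⟧' ≫ (shiftShiftNeg Y i).hom :=
      Subsingleton.elim _ _
    exact (shiftFunctor T (-i)).map_injective ((cancel_mono _).1 h1)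
  · intro h
    refine ⟨fun a a' => ?_⟩
    have h1 : (shiftNegShift G i).inv ≫ a⟦i⟧' = (shiftNegShift G i).inv ≫ a'⟦i⟧' :=
      Subsingleton.elim _ _
    exact (shiftFunctor T i).map_injective ((cancel_epi _).1 h1)

omit [Linear A T] [∀ n : ℤ, (shiftFunctor T n).Linear A] [Pretriangulated T] [HasZeroObject T]
  [∀ n : ℤ, (shiftFunctor T n).Additive] [Preadditive T] in
lemma subsingleton_hom_of_iso_right {G Y Y' : T} (e : Y ≅ Y') (h : Subsingleton (G ⟶ Y)) :
    Subsingleton (G ⟶ Y') := by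
  refine ⟨fun a a' => ?_⟩
  have h1 : a ≫ e.inv = a' ≫ e.inv := Subsingleton.elim _ _
  exact (cancel_mono _).1 h1

section Main

variable {X : T} (D : PowData X) (f : A) {Z : T} (j : D.P ⟶ Z) (δ : Z ⟶ D.P⟦(1 : ℤ)⟧)
  (hT₁ : Triangle.mk (D.Φ f) j δ ∈ distTriang T)
  {C : T} (η : X ⟶ C) (β : C ⟶ Z)
  (hT₂ : Triangle.mk η β (δ ≫ (D.π 0)⟦(1 : ℤ)⟧') ∈ distTriang T)

include hT₁ hT₂

/-- Lemma L: `Hom(N, X) = 0 = Hom(N, X⟦1⟧)` implies `Hom(N, C) = 0`. -/
theorem hom_completion_eq_zero {N : T} (h0 : Subsingleton (N ⟶ X))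
    (h1 : Subsingleton (N ⟶ X⟦(1 : ℤ)⟧)) (c : N ⟶ C) : c = 0 := by
  have e1 : (c ≫ β) ≫ δ = 0 := by
    apply D.eq_zero_of_scoord
    funext k
    exact Subsingleton.elim _ _
  obtain ⟨b, hb⟩ := exact₃ _ _ _ hT₁ (c ≫ β) e1
  have hb0 : b = 0 := by
    apply D.eq_zero_of_coord
    funext k
    exact Subsingleton.elim _ _
  have e2 : c ≫ β = 0 := by rw [hb, hb0, zero_comp]
  obtain ⟨x, hx⟩ := exact₂ _ _ _ hT₂ c e2
  rw [hx, Subsingleton.elim x 0, zero_comp]

/-- shifted form of Lemma L -/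
theorem subsingleton_hom_completion_shift (G : T) (i : ℤ) (h0 : Subsingleton (G ⟶ X⟦i⟧))
    (h1 : Subsingleton (G ⟶ X⟦i + 1⟧)) : Subsingleton (G ⟶ C⟦i⟧) := by
  rw [← subsingleton_hom_negShift_iff] at h0 ⊢
  have h1' : Subsingleton (G⟦-i⟧ ⟶ X⟦(1 : ℤ)⟧) := by
    rw [subsingleton_hom_negShift_iff]
    exact subsingleton_hom_of_iso_right
      ((shiftFunctorAdd' T (1 : ℤ) i (i + 1) (by omega)).app X) h1
  exact ⟨fun c c' => (hom_completion_eq_zero D f j δ hT₁ η β hT₂ h0 h1' c).trans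
    (hom_completion_eq_zero D f j δ hT₁ η β hT₂ h0 h1' c').symm⟩

end Main

/-- existence of the completion with respect to a finite list of elements, with vanishing bounds -/
theorem exists_completion_bounds (hP : ∀ X : T, Nonempty (PowData X)) (fs : List A) (X : T) :
    ∃ (C : T) (η : X ⟶ C), PerpL fs C ∧
      (∀ M : T, PerpL fs M → ∀ h : X ⟶ M, ∃! g : C ⟶ M, η ≫ g = h) ∧
      ∀ (G : T) (i : ℤ), (∀ k : ℤ, i ≤ k → k ≤ i + fs.length → Subsingleton (G ⟶ X⟦k⟧)) →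
        Subsingleton (G ⟶ C⟦i⟧) := by
  induction fs with
  | nil =>
    refine ⟨X, 𝟙 X, fun f hf => absurd hf (List.not_mem_nil),
      fun M _ h => ⟨h, Category.id_comp h, ?_⟩, ?_⟩
    · intro g hg
      rw [← hg, Category.id_comp]
    · intro G i h
      exact h i le_rfl (by simp)
  | cons f fs ih =>
    obtain ⟨C₁, η₁, hC₁, hu₁, hb₁⟩ := ih
    obtain ⟨D⟩ := hP C₁
    obtain ⟨Z, j, δ, hT₁⟩ := distinguished_cocone_triangle (D.Φ f)
    obtain ⟨C, η, β, hT₂⟩ := distinguished_cocone_triangle₂ (δ ≫ (D.π 0)⟦(1 : ℤ)⟧')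
    refine ⟨C, η₁ ≫ η, ?_, ?_, ?_⟩
    · intro g hg
      rcases List.mem_cons.1 hg with rfl | hg'
      · exact perp_completion D g j δ hT₁ η β hT₂
      · exact perp_completion_of_perp D f j δ hT₁ η β hT₂ g (hC₁ g hg')
    · intro M hM h
      obtain ⟨g₁, hg₁, hg₁u⟩ := hu₁ M (fun g hg => hM g (List.mem_cons_of_mem _ hg)) h
      obtain ⟨g, hg, hgu⟩ := completion_universal D f j δ hT₁ η β hT₂
        (hM f List.mem_cons_self) g₁
      refine ⟨g, ?_, ?_⟩
      · show (η₁ ≫ η) ≫ g = h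
        rw [Category.assoc, hg, hg₁]
      · intro g' hg'
        apply hgu
        apply hg₁u
        show η₁ ≫ η ≫ g' = h
        rw [← Category.assoc]; exact hg'
    · intro G i h
      have hlen : ((f :: fs).length : ℤ) = (fs.length : ℤ) + 1 := by simp
      apply subsingleton_hom_completion_shift D f j δ hT₁ η β hT₂ G i
      · apply hb₁ G i
        intro k hk1 hk2
        exact h k hk1 (by rw [hlen]; omega)
      · apply hb₁ G (i + 1)
        intro k hk1 hk2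
        exact h k (by omega) (by rw [hlen]; omega)

end Groth.Agent.H9.DC
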