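import Mathlib
import Groth.Agent.H9.DC.Bounds

/-!
# Co-local property of the completion: `Hom(G, X) ≃ Hom(G, C)` for `G` left orthogonal to `Inv f`
(helper9)
-/

set_option autoImplicit false
universe w v u

open CategoryTheory CategoryTheory.Limits CategoryTheory.Pretriangulated

namespace Groth.Agent.H9.DC

variable {A : Type w} [CommRing A]
  {T : Type u} [Category.{v} T] [Preadditive T] [Linear A T] [HasZeroObject T] [HasShift T ℤ]
  [∀ n : ℤ, (shiftFunctor T n).Additive] [∀ n : ℤ, (shiftFunctor T n).Linear A]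
  [Pretriangulated T]

/-- left orthogonality to the objects on which `f` is invertible -/
def LPerp (f : A) : ObjectProperty T := fun G => ∀ N : T, Inv f N → ∀ a : G ⟶ N, a = 0

/-- left orthogonality for a list -/
def LPerpL (fs : List A) : ObjectProperty T := fun G => ∀ f ∈ fs, LPerp f G

/-- if the cone of `a` is in `Inv f` then `a` is a local equivalence for `Perp f` and a co-local
equivalence for `LPerp f`. -/
theorem bijective_comp_of_inv_cone {X Y Z : T} (a : X ⟶ Y) (b : Y ⟶ Z) (c : Z ⟶ X⟦(1 : ℤ)⟧)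
    (hT : Triangle.mk a b c ∈ distTriang T) (f : A) (hZ : Inv f Z) {G : T} (hG : LPerp f G) :
    Function.Bijective (fun g : G ⟶ X => g ≫ a) := by
  have hT₃ := inv_rot_of_distTriang _ hT
  constructor
  · intro g g' hgg'
    have h1 : (g - g') ≫ a = 0 := by
      rw [Preadditive.sub_comp]
      exact sub_eq_zero.2 hgg'
    obtain ⟨z, hz⟩ := Triangle.coyoneda_exact₂ _ hT₃ (g - g') h1
    have hz0 : z = 0 := hG _ (hZ.shift (-1)) z
    rw [hz0, zero_comp] at hz
    exact sub_eq_zero.1 hz
  · intro y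
    have h1 : y ≫ b = 0 := hG Z hZ _
    obtain ⟨x, hx⟩ := Triangle.coyoneda_exact₂ _ hT y h1
    exact ⟨x, hx.symm⟩

theorem bijective_precomp_of_inv_cone {X Y Z : T} (a : X ⟶ Y) (b : Y ⟶ Z) (c : Z ⟶ X⟦(1 : ℤ)⟧)
    (hT : Triangle.mk a b c ∈ distTriang T) (f : A) (hZ : Inv f Z) {M : T} (hM : Perp f M) :
    Function.Bijective (fun g : Y ⟶ M => a ≫ g) := by
  have hT₃ := inv_rot_of_distTriang _ hT
  constructor
  · intro g g' hgg'
    have h1 : a ≫ (g - g') = 0 := by
      rw [Preadditive.comp_sub]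
      exact sub_eq_zero.2 hgg'
    obtain ⟨z, hz⟩ := Triangle.yoneda_exact₂ _ hT (g - g') h1
    have hz0 : z = 0 := hM Z hZ z
    rw [hz0, comp_zero] at hz
    exact sub_eq_zero.1 hz
  · intro h
    have h0 : (Triangle.mk a b c).invRotate.mor₁ ≫ h = 0 := hM _ (hZ.shift (-1)) _
    obtain ⟨g0, hg0⟩ := Triangle.yoneda_exact₂ _ hT₃ h h0
    exact ⟨g0, hg0.symm⟩

/-- existence of the completion with respect to a finite list of elements, with all properties -/
theorem exists_completion_full (hP : ∀ X : T, Nonempty (PowData X)) (fs : List A) (X : T) :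
    ∃ (C : T) (η : X ⟶ C), PerpL fs C ∧
      (∀ M : T, PerpL fs M → ∀ h : X ⟶ M, ∃! g : C ⟶ M, η ≫ g = h) ∧
      (∀ (G : T) (i : ℤ), (∀ k : ℤ, i ≤ k → k ≤ i + fs.length → Subsingleton (G ⟶ X⟦k⟧)) →
        Subsingleton (G ⟶ C⟦i⟧)) ∧
      ∀ G : T, LPerpL fs G → Function.Bijective (fun g : G ⟶ X => g ≫ η) := by
  induction fs with
  | nil =>
    refine ⟨X, 𝟙 X, fun f hf => absurd hf (List.not_mem_nil),
      fun M _ h => ⟨h, Category.id_comp h, ?_⟩, ?_, ?_⟩
    · intro g hg
      rw [← hg, Category.id_comp]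
    · intro G i h
      exact h i le_rfl (by simp)
    · intro G _
      have : (fun g : G ⟶ X => g ≫ 𝟙 X) = id := by
        funext g
        exact Category.comp_id g
      rw [this]
      exact Function.bijective_id
  | cons f fs ih =>
    obtain ⟨C₁, η₁, hC₁, hu₁, hb₁, hc₁⟩ := ih
    obtain ⟨D⟩ := hP C₁
    obtain ⟨Z, j, δ, hT₁⟩ := distinguished_cocone_triangle (D.Φ f)
    obtain ⟨C, η, β, hT₂⟩ := distinguished_cocone_triangle₂ (δ ≫ (D.π 0)⟦(1 : ℤ)⟧')
    refine ⟨C, η₁ ≫ η, ?_, ?_, ?_, ?_⟩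
    · intro g hg
      rcases List.mem_cons.1 hg with rfl | hg'
      · exact perp_completion D g j δ hT₁ η β hT₂
      · exact perp_completion_of_perp D f j δ hT₁ η β hT₂ g (hC₁ g hg')
    · intro M hM h
      obtain ⟨g₁, hg₁, hg₁u⟩ := hu₁ M (fun g hg => hM g (List.mem_cons_of_mem _ hg)) h
      obtain ⟨g, hg, hgu⟩ := completion_universal D f j δ hT₁ η β hT₂
        (hM f List.mem_cons_self) g₁
      refine ⟨g, ?_, ?_⟩
      · show (η₁ ≫ η) ≫ g = h
        rw [Category.assoc, hg, hg₁]
      · intro g' hg'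
        apply hgu
        apply hg₁u
        show η₁ ≫ η ≫ g' = h
        rw [← Category.assoc]; exact hg'
    · intro G i h
      have hlen : ((f :: fs).length : ℤ) = (fs.length : ℤ) + 1 := by simp
      apply subsingleton_hom_completion_shift D f j δ hT₁ η β hT₂ G i
      · apply hb₁ G i
        intro k hk1 hk2
        exact h k hk1 (by rw [hlen]; omega)
      · apply hb₁ G (i + 1)
        intro k hk1 hk2
        exact h k (by omega) (by rw [hlen]; omega)
    · intro G hG
      have h1 := hc₁ G (fun g hg => hG g (List.mem_cons_of_mem _ hg))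
      have h2 := bijective_comp_of_inv_cone η β _ hT₂ f (inv_cone D f j δ hT₁)
        (hG f List.mem_cons_self)
      have : (fun g : G ⟶ X => g ≫ η₁ ≫ η) = (fun g : G ⟶ C₁ => g ≫ η) ∘ (fun g : G ⟶ X => g ≫ η₁) := by
        funext g
        simp
      rw [this]
      exact h2.comp h1

end Groth.Agent.H9.DC
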