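import Mathlib
import Groth.Prelude.Def_DRing3
import Groth.Agent.H9.DC.Reflect
import Groth.Agent.H9.RG.NoethD
import Groth.Agent.H35.PowCx
import Groth.Agent.H35.DerCompleteIdeal
import Groth.Agent.H6.DerivedProd

/-!
# Derived completion exists for finitely generated ideals
-/

set_option autoImplicit false
universe u

open CategoryTheory CategoryTheory.Limits CategoryTheory.Pretriangulated

attribute [local instance] HasDerivedCategory.standard

namespace Groth.Agent.H9.DC

open Groth.Agent.H35 Groth.Agent.H9.RG DerivedCategory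

variable {A : Type u} [CommRing A]

/-- The projection to the `k`-th coordinate. -/
noncomputable def projK (k : ℕ) : powFunctor (A := A) ⟶ 𝟭 (ModuleCat.{u} A) where
  app _ := ModuleCat.ofHom (LinearMap.proj k)
  naturality _ _ _ := rfl

/-- The `k`-th projection `E^ℕ → E`. -/
noncomputable def projCx (E : Cx A) (k : ℕ) : powCx E ⟶ E :=
  (NatTrans.mapHomologicalComplex (projK (A := A) k) _).app E ≫
    (Functor.mapHomologicalComplexIdIso _ _).hom.app E

lemma powLift_projCx {E' E : Cx A} (b : ℕ → (E' ⟶ E)) (k : ℕ) :
    powLift b ≫ projCx E k = b k := by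
  ext i x
  rfl

lemma PhiCx_projCx (E : Cx A) (f : A) (k : ℕ) :
    PhiCx E f ≫ projCx E k = projCx E k - f • projCx E (k + 1) := by
  ext i x
  rfl

/-- the power complex as a fan -/
noncomputable def powFan (E : Cx A) : Fan (fun _ : ℕ => E) := Fan.mk (powCx E) (projCx E)

/-- the power complex is the product -/
noncomputable def powFanIsLimit (E : Cx A) : IsLimit (powFan E) :=
  mkFanLimit _ (fun s => powLift (fun k => s.proj k))
    (fun s k => powLift_projCx _ k)
    (fun s m hm => by
      ext i x
      funext k
      have := congrArg (fun (φ : s.pt ⟶ E) => (φ.f i).hom x) (hm k)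
      exact this)

/-- the countable power of `Q E` for K-injective `E` -/
noncomputable def powDataQ (E : Cx A) (hE : E.IsKInjective) : PowData (Q.obj E) where
  P := Q.obj (powCx E)
  π k := Q.map (projCx E k)
  bij N := by
    let Y := (Q : _ ⥤ Dual.D A).objPreimage N
    let eN : Q.obj Y ≅ N := (Q : _ ⥤ Dual.D A).objObjPreimageIso N
    have hb := Groth.Agent.H6.DerivedProd.bijective_Q (powFan E) (powFanIsLimit E) (fun _ => hE) Y
    constructor
    · intro φ φ' h
      have : eN.hom ≫ φ = eN.hom ≫ φ' := by
        apply hb.injective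
        funext k
        show (eN.hom ≫ φ) ≫ Q.map (projCx E k) = (eN.hom ≫ φ') ≫ Q.map (projCx E k)
        rw [Category.assoc, Category.assoc]
        exact congrArg (fun t => eN.hom ≫ t) (congrFun h k)
      exact (cancel_epi eN.hom).1 this
    · intro b
      obtain ⟨φ, hφ⟩ := hb.surjective (fun k => eN.hom ≫ b k)
      refine ⟨eN.inv ≫ φ, ?_⟩
      funext k
      have := congrFun hφ k
      show (eN.inv ≫ φ) ≫ Q.map (projCx E k) = b k
      rw [Category.assoc]
      have h2 : φ ≫ Q.map (projCx E k) = eN.hom ≫ b k := this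
      rw [h2, Iso.inv_hom_id_assoc]

lemma powDataQ_Φ (E : Cx A) (hE : E.IsKInjective) (f : A) :
    (powDataQ E hE).Φ f = Q.map (PhiCx E f) := by
  apply (powDataQ E hE).hom_ext
  intro k
  rw [PowData.Φ_π]
  show Q.map (projCx E k) - f • Q.map (projCx E (k + 1)) = Q.map (PhiCx E f) ≫ Q.map (projCx E k)
  rw [← Functor.map_comp, PhiCx_projCx, Functor.map_sub, Functor.map_smul]

/-- every object of `D(A)` has a countable power -/
theorem nonempty_powData (X : Dual.D A) : Nonempty (PowData X) := by
  obtain ⟨E, hE, -, ⟨e⟩⟩ := exists_rep X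
  exact ⟨(powDataQ E hE).ofIso e.symm⟩

/-- `f` acts invertibly on `A_f[0]` -/
lemma inv_inD_away (f : A) : Inv f (Dual.inD A (Localization.Away f)) := by
  unfold Inv
  have h1 : IsIso (f • 𝟙 (ModuleCat.of A (Localization.Away f))) := by
    rw [ConcreteCategory.isIso_iff_bijective]
    have hu : IsUnit (algebraMap A (Localization.Away f) f) :=
      IsLocalization.Away.algebraMap_isUnit f
    obtain ⟨u, hu⟩ := hu
    have e : ∀ x : Localization.Away f,
        (ConcreteCategory.hom (f • 𝟙 (ModuleCat.of A (Localization.Away f)))) x = (u : Localization.Away f) * x := by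
      intro x
      show f • x = _
      rw [Algebra.smul_def, hu]
    constructor
    · intro x y hxy
      rw [e, e] at hxy
      exact (Units.mul_right_inj u).1 hxy
    · intro y
      refine ⟨(↑u⁻¹ : Localization.Away f) * y, ?_⟩
      rw [e, Units.mul_inv_cancel_left]
  have h2 : f • 𝟙 (Dual.inD A (Localization.Away f)) =
      (DerivedCategory.singleFunctor (ModuleCat.{u} A) 0).map
        (f • 𝟙 (ModuleCat.of A (Localization.Away f))) := by
    rw [Functor.map_smul, CategoryTheory.Functor.map_id]
  rw [h2]
  infer_instance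

/-- orthogonality to `Inv f` is derived `f`-completeness -/
theorem perp_iff (f : A) (M : Dual.D A) :
    Perp f M ↔ ∀ n : ℤ, Subsingleton (Dual.inD A (Localization.Away f) ⟶ M⟦n⟧) := by
  constructor
  · intro h n
    exact subsingleton_of_forall_eq 0 (fun a => (h.shift n) _ (inv_inD_away f) a)
  · intro h
    obtain ⟨E, hE, -, ⟨e⟩⟩ := exists_rep M
    have h' : ∀ n : ℤ, Subsingleton (Dual.inD A (Localization.Away f) ⟶ (Q.obj E)⟦n⟧) := fun n =>
      subsingleton_hom_of_iso ((shiftFunctor (Dual.D A) n).mapIso e) (h n)
    rw [subsingleton_away_hom_shift_Q_iff] at h'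
    have hq : QuasiIso (PhiCx E f) := quasiIso_PhiCx E f h'
    have hiso : IsIso (Q.map (PhiCx E f)) := (isIso_Q_map_iff_quasiIso (φ := PhiCx E f)).mpr hq
    have h2 : Perp f (Q.obj E) := by
      apply perp_of_isIso_Φ (powDataQ E hE) f
      rw [powDataQ_Φ]
      exact hiso
    exact h2.of_iso e.symm

/-- derived completeness with respect to the ideal generated by a list -/
theorem isDerivedComplete_iff_perpL (fs : List A) (M : Dual.D A) :
    DRing.IsDerivedComplete (Ideal.span {x | x ∈ fs}) M ↔ PerpL fs M := by
  constructor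
  · intro h f hf
    rw [perp_iff]
    exact h f (Ideal.subset_span hf)
  · intro h
    rw [isDerivedComplete_iff_Phi]
    intro f hf n
    have hle : Ideal.span {x | x ∈ fs} ≤ PhiIdeal A (Dual.HD A M n) := by
      rw [Ideal.span_le]
      intro g hg
      have h1 := (perp_iff g M).1 (h g hg)
      exact (subsingleton_away_hom_shift_iff_HD g M).1 h1 n
    exact hle hf

/-- **S7096**: derived completion exists for finitely generated ideals -/
theorem hasDerivedCompletion (I : Ideal A) (hI : I.FG) : DRing.HasDerivedCompletion I := by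
  obtain ⟨s, rfl⟩ := hI
  have hs : (Ideal.span (s : Set A) : Ideal A) = Ideal.span {x | x ∈ s.toList} := by
    congr 1
    ext x
    simp
  rw [hs]
  apply isRightAdjoint_ι_of_universal
  intro X
  obtain ⟨C, η, hC, hu⟩ := exists_completion (A := A) nonempty_powData s.toList X
  refine ⟨C, η, (isDerivedComplete_iff_perpL _ C).2 hC, fun M hM h => ?_⟩
  exact hu M ((isDerivedComplete_iff_perpL _ M).1 hM) h

end Groth.Agent.H9.DC
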