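import Mathlib

/-!
# Local equivalences with respect to a shift-stable class of objects in a pretriangulated category
(helper9)

`LocEq P η` : precomposition with `η : X ⟶ C` is bijective on `Hom(-, M)` for all `M` with `P M`.
Main result `locEq_of_triangles`: two-out-of-three for morphisms of distinguished triangles
(five lemma on `Hom(-, M)`).
-/

set_option autoImplicit false
universe v u

open CategoryTheory CategoryTheory.Limits CategoryTheory.Pretriangulated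

namespace Groth.Agent.H9.DC

section Univ

variable {T : Type u} [Category.{v} T]

/-- two universal arrows to the class `P` are isomorphic (compatibly) -/
lemma exists_iso_of_universal (P : T → Prop) {X C C' : T} (η : X ⟶ C) (η' : X ⟶ C')
    (hC : P C) (hC' : P C')
    (hu : ∀ M, P M → ∀ h : X ⟶ M, ∃! g : C ⟶ M, η ≫ g = h)
    (hu' : ∀ M, P M → ∀ h : X ⟶ M, ∃! g : C' ⟶ M, η' ≫ g = h) :
    ∃ e : C ≅ C', η ≫ e.hom = η' := by
  obtain ⟨a, ha, -⟩ := hu C' hC' η'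
  obtain ⟨b, hb, -⟩ := hu' C hC η
  refine ⟨⟨a, b, ?_, ?_⟩, ha⟩
  · obtain ⟨c, -, hc⟩ := hu C hC η
    rw [hc (a ≫ b) (by show η ≫ a ≫ b = η; rw [← Category.assoc, ha, hb]),
      hc (𝟙 C) (Category.comp_id _)]
  · obtain ⟨c, -, hc⟩ := hu' C' hC' η'
    rw [hc (b ≫ a) (by show η' ≫ b ≫ a = η'; rw [← Category.assoc, hb, ha]),
      hc (𝟙 C') (Category.comp_id _)]

/-- `η` induces bijections on `Hom(-, M)` for all `M` in `P` -/
def LocEq (P : T → Prop) {X C : T} (η : X ⟶ C) : Prop :=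
  ∀ M, P M → Function.Bijective (fun g : C ⟶ M => η ≫ g)

lemma LocEq.universal {P : T → Prop} {X C : T} {η : X ⟶ C} (h : LocEq P η) :
    ∀ M, P M → ∀ k : X ⟶ M, ∃! g : C ⟶ M, η ≫ g = k := by
  intro M hM k
  obtain ⟨g, hg⟩ := (h M hM).2 k
  exact ⟨g, hg, fun g' hg' => (h M hM).1 (hg'.trans hg.symm)⟩

lemma locEq_of_universal {P : T → Prop} {X C : T} {η : X ⟶ C}
    (h : ∀ M, P M → ∀ k : X ⟶ M, ∃! g : C ⟶ M, η ≫ g = k) : LocEq P η := by
  intro M hM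
  constructor
  · intro g g' hgg'
    obtain ⟨c, -, hc⟩ := h M hM (η ≫ g)
    exact (hc g rfl).trans (hc g' hgg'.symm).symm
  · intro k
    obtain ⟨g, hg, -⟩ := h M hM k
    exact ⟨g, hg⟩

end Univ

variable {T : Type u} [Category.{v} T] [Preadditive T] [HasZeroObject T] [HasShift T ℤ]
  [∀ n : ℤ, (shiftFunctor T n).Additive] [Pretriangulated T]

omit [Preadditive T] [HasZeroObject T] [∀ n : ℤ, (shiftFunctor T n).Additive] [Pretriangulated T] in
lemma LocEq.shift {P : T → Prop} (hP : ∀ M, P M → ∀ n : ℤ, P (M⟦n⟧)) {X C : T} {η : X ⟶ C}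
    (h : LocEq P η) (n : ℤ) : LocEq P (η⟦n⟧') := by
  intro M hM
  let adj := (shiftEquiv T n).toAdjunction
  have key : (fun g : C⟦n⟧ ⟶ M => η⟦n⟧' ≫ g) =
      (adj.homEquiv X M).symm ∘ (fun g' : C ⟶ M⟦-n⟧ => η ≫ g') ∘ (adj.homEquiv C M) := by
    funext g
    apply (adj.homEquiv X M).injective
    simp only [Function.comp_apply, Equiv.apply_symm_apply]
    exact adj.homEquiv_naturality_left η g
  rw [key]
  exact (adj.homEquiv X M).symm.bijective.comp ((h _ (hP M hM (-n))).comp (adj.homEquiv C M).bijective)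

/-- two-out-of-three for local equivalences along a morphism of distinguished triangles -/
theorem locEq_of_triangles {P : T → Prop} (hP : ∀ M, P M → ∀ n : ℤ, P (M⟦n⟧))
    {X Y Z X' Y' Z' : T} (f : X ⟶ Y) (g : Y ⟶ Z) (h : Z ⟶ X⟦(1 : ℤ)⟧)
    (hT : Triangle.mk f g h ∈ distTriang T)
    (f' : X' ⟶ Y') (g' : Y' ⟶ Z') (h' : Z' ⟶ X'⟦(1 : ℤ)⟧)
    (hT' : Triangle.mk f' g' h' ∈ distTriang T)
    (a : X ⟶ X') (b : Y ⟶ Y') (c : Z ⟶ Z')
    (comm₁ : f ≫ b = a ≫ f') (comm₂ : g ≫ c = b ≫ g') (comm₃ : h ≫ a⟦(1 : ℤ)⟧' = c ≫ h')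
    (ha : LocEq P a) (hb : LocEq P b) : LocEq P c := by
  have ha1 := ha.shift hP 1
  have hb1 := hb.shift hP 1
  intro M hM
  have inj0 : ∀ d : Z' ⟶ M, c ≫ d = 0 → d = 0 := by
    intro d hd
    have e1 : g' ≫ d = 0 := by
      apply (hb M hM).1
      show b ≫ g' ≫ d = b ≫ 0
      rw [← Category.assoc, ← comm₂, Category.assoc, hd, comp_zero, comp_zero]
    obtain ⟨(e : X'⟦(1 : ℤ)⟧ ⟶ M), he⟩ := Triangle.yoneda_exact₃ _ hT' d e1
    change d = h' ≫ e at he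
    have e2 : h ≫ (a⟦(1 : ℤ)⟧' ≫ e) = 0 := by
      rw [← Category.assoc, comm₃, Category.assoc, ← he, hd]
    obtain ⟨(y : Y⟦(1 : ℤ)⟧ ⟶ M), hy⟩ := Triangle.yoneda_exact₂ _
      (rot_of_distTriang _ (rot_of_distTriang _ hT)) (a⟦(1 : ℤ)⟧' ≫ e) e2
    change a⟦(1 : ℤ)⟧' ≫ e = (-f⟦(1 : ℤ)⟧') ≫ y at hy
    obtain ⟨y', hy'⟩ := (hb1 M hM).2 (-y)
    change b⟦(1 : ℤ)⟧' ≫ y' = -y at hy'
    have e3 : e = f'⟦(1 : ℤ)⟧' ≫ y' := by
      apply (ha1 M hM).1
      show a⟦(1 : ℤ)⟧' ≫ e = a⟦(1 : ℤ)⟧' ≫ f'⟦(1 : ℤ)⟧' ≫ y'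
      rw [hy, ← Category.assoc, ← Functor.map_comp, ← comm₁, Functor.map_comp, Category.assoc, hy',
        Preadditive.neg_comp, Preadditive.comp_neg]
    have z31 : h' ≫ f'⟦(1 : ℤ)⟧' = 0 := comp_distTriang_mor_zero₃₁ _ hT'
    rw [he, e3, ← Category.assoc, z31, zero_comp]
  constructor
  · intro w w' hww'
    have : w - w' = 0 := inj0 _ (by
      have : c ≫ w = c ≫ w' := hww'
      rw [Preadditive.comp_sub, this, sub_self])
    exact sub_eq_zero.1 this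
  · intro v
    obtain ⟨u, hu⟩ := (hb M hM).2 (g ≫ v)
    change b ≫ u = g ≫ v at hu
    have e1 : f' ≫ u = 0 := by
      apply (ha M hM).1
      show a ≫ f' ≫ u = a ≫ 0
      have z12 : f ≫ g = 0 := comp_distTriang_mor_zero₁₂ _ hT
      rw [← Category.assoc, ← comm₁, Category.assoc, hu, ← Category.assoc,
        z12, zero_comp, comp_zero]
    obtain ⟨(w₀ : Z' ⟶ M), hw₀⟩ := Triangle.yoneda_exact₂ _ hT' u e1
    change u = g' ≫ w₀ at hw₀
    have e2 : g ≫ (v - c ≫ w₀) = 0 := by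
      rw [Preadditive.comp_sub, ← Category.assoc, comm₂, Category.assoc, ← hw₀, hu, sub_self]
    obtain ⟨(t : X⟦(1 : ℤ)⟧ ⟶ M), ht⟩ := Triangle.yoneda_exact₃ _ hT (v - c ≫ w₀) e2
    change v - c ≫ w₀ = h ≫ t at ht
    obtain ⟨t', ht'⟩ := (ha1 M hM).2 t
    change a⟦(1 : ℤ)⟧' ≫ t' = t at ht'
    refine ⟨w₀ + h' ≫ t', ?_⟩
    show c ≫ (w₀ + h' ≫ t') = v
    rw [Preadditive.comp_add, ← Category.assoc c, ← comm₃, Category.assoc, ht', ← ht]
    abel

end Groth.Agent.H9.DC
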