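import Mathlib
import Groth.Agent.H9.DC.Bounds
import Groth.Agent.H9.DC.Concrete
import Groth.Agent.H9.DC.LocEq
import Groth.Agent.H2.DualCx.Single

/-!
# Derived completion: universal property, cones, cohomological bounds (helper9)
-/

set_option autoImplicit false
universe u

open CategoryTheory CategoryTheory.Limits CategoryTheory.Pretriangulated

attribute [local instance] HasDerivedCategory.standard

namespace Groth.Agent.H9.DC

open DerivedCategory

variable {A : Type u} [CommRing A]

theorem isDerivedComplete_iff_perp (I : Ideal A) (M : Dual.D A) :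
    DRing.IsDerivedComplete I M ↔ ∀ f : A, f ∈ I → Perp f M := by
  constructor
  · intro h f hf
    exact (perp_iff f M).2 (h f hf)
  · intro h f hf
    exact (perp_iff f M).1 (h f hf)

theorem isDerivedComplete_shift (I : Ideal A) (M : Dual.D A) (hM : DRing.IsDerivedComplete I M)
    (n : ℤ) : DRing.IsDerivedComplete I (M⟦n⟧) := by
  rw [isDerivedComplete_iff_perp] at hM ⊢
  intro f hf
  exact (hM f hf).shift n

theorem isDerivedComplete_of_triangle (I : Ideal A) (Tr : Triangle (Dual.D A))
    (hT : Tr ∈ distTriang (Dual.D A)) (h₁ : DRing.IsDerivedComplete I Tr.obj₁)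
    (h₂ : DRing.IsDerivedComplete I Tr.obj₂) : DRing.IsDerivedComplete I Tr.obj₃ := by
  rw [isDerivedComplete_iff_perp] at h₁ h₂ ⊢
  intro f hf
  exact Perp.of_triangle Tr hT (h₂ f hf) ((h₁ f hf).shift 1)

/-- the unit `K ⟶ K^∧` is a universal arrow to derived complete objects -/
theorem toDerivedCompletion_universal (I : Ideal A) [DRing.HasDerivedCompletion I]
    (K M : Dual.D A) (hM : DRing.IsDerivedComplete I M) (h : K ⟶ M) :
    ∃! g : ((DRing.derivedCompletion I).obj K).obj ⟶ M, DRing.toDerivedCompletion I K ≫ g = h := by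
  let adj := DRing.derivedCompletionAdj I
  let M' : DRing.DComp I := ⟨M, hM⟩
  let e := adj.homEquiv K M'
  refine ⟨(e.symm h).hom, ?_, ?_⟩
  · have h1 : e (e.symm h) = h := e.apply_symm_apply h
    rw [Adjunction.homEquiv_unit] at h1
    exact h1
  · intro g' hg'
    have h2 : e (ObjectProperty.homMk g') = h := by
      rw [Adjunction.homEquiv_unit]
      exact hg'
    rw [← h2, e.symm_apply_apply]
    rfl

theorem locEq_toDerivedCompletion (I : Ideal A) [DRing.HasDerivedCompletion I] (K : Dual.D A) :
    LocEq (DRing.IsDerivedComplete I) (DRing.toDerivedCompletion I K) :=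
  locEq_of_universal (toDerivedCompletion_universal I K)

theorem subsingleton_HD_iff (K : Dual.D A) (i : ℤ) :
    Subsingleton (Dual.HD A K i) ↔ Subsingleton (Dual.inD A A ⟶ K⟦i⟧) :=
  (Groth.Agent.H2.DualCx.subsingleton_T_self_iff K i).symm

/-- bounds for the derived completion -/
theorem completion_bounds (I : Ideal A) [DRing.HasDerivedCompletion I] (fs : List A)
    (hfs : Ideal.span {x | x ∈ fs} = I) (K G : Dual.D A) (i : ℤ)
    (hyp : ∀ k : ℤ, i ≤ k → k ≤ i + fs.length → Subsingleton (G ⟶ K⟦k⟧)) :
    Subsingleton (G ⟶ (((DRing.derivedCompletion I).obj K).obj)⟦i⟧) := by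
  subst hfs
  obtain ⟨C, η, hC, hu, hb⟩ := exists_completion_bounds (A := A) nonempty_powData fs K
  obtain ⟨e, -⟩ := exists_iso_of_universal (DRing.IsDerivedComplete (Ideal.span {x | x ∈ fs}))
    η (DRing.toDerivedCompletion _ K) ((isDerivedComplete_iff_perpL fs C).2 hC)
    ((DRing.derivedCompletion _).obj K).property
    (fun M hM h => hu M ((isDerivedComplete_iff_perpL fs M).1 hM) h)
    (toDerivedCompletion_universal _ K)
  exact subsingleton_hom_of_iso_right ((shiftFunctor (Dual.D A) i).mapIso e) (hb G i hyp)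

/-- the cone of `φ^∧` is the completion of the cone of `φ`; bounds -/
theorem exists_cone_completion (I : Ideal A) [DRing.HasDerivedCompletion I] (fs : List A)
    (hfs : Ideal.span {x | x ∈ fs} = I) {K L : Dual.D A} (φ : K ⟶ L)
    {Z : Dual.D A} (g : L ⟶ Z) (h : Z ⟶ K⟦(1 : ℤ)⟧)
    (hT : Triangle.mk φ g h ∈ distTriang (Dual.D A)) :
    ∃ (W : Dual.D A) (g' : ((DRing.derivedCompletion I).obj L).obj ⟶ W)
      (h' : W ⟶ (((DRing.derivedCompletion I).obj K).obj)⟦(1 : ℤ)⟧),
      Triangle.mk ((DRing.derivedCompletion I).map φ).hom g' h' ∈ distTriang (Dual.D A) ∧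
      ∀ (G : Dual.D A) (i : ℤ),
        (∀ k : ℤ, i ≤ k → k ≤ i + fs.length → Subsingleton (G ⟶ Z⟦k⟧)) →
        Subsingleton (G ⟶ W⟦i⟧) := by
  subst hfs
  set I := Ideal.span {x | x ∈ fs} with hI
  obtain ⟨W, g', h', hT'⟩ := distinguished_cocone_triangle ((DRing.derivedCompletion I).map φ).hom
  refine ⟨W, g', h', hT', ?_⟩
  have comm₁ : φ ≫ DRing.toDerivedCompletion I L =
      DRing.toDerivedCompletion I K ≫ ((DRing.derivedCompletion I).map φ).hom :=
    (DRing.derivedCompletionAdj I).unit.naturality φ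
  obtain ⟨ζ, comm₂, comm₃⟩ := complete_distinguished_triangle_morphism _ _ hT hT'
    (DRing.toDerivedCompletion I K) (DRing.toDerivedCompletion I L) comm₁
  have hζ : LocEq (DRing.IsDerivedComplete I) ζ :=
    locEq_of_triangles (isDerivedComplete_shift I) φ g h hT _ g' h' hT' _ _ ζ comm₁ comm₂ comm₃
      (locEq_toDerivedCompletion I K) (locEq_toDerivedCompletion I L)
  have hW : DRing.IsDerivedComplete I W :=
    isDerivedComplete_of_triangle I _ hT' ((DRing.derivedCompletion I).obj K).property
      ((DRing.derivedCompletion I).obj L).property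
  obtain ⟨C, η, hC, hu, hb⟩ := exists_completion_bounds (A := A) nonempty_powData fs Z
  obtain ⟨e, -⟩ := exists_iso_of_universal (DRing.IsDerivedComplete I)
    η ζ ((isDerivedComplete_iff_perpL fs C).2 hC) hW
    (fun M hM h => hu M ((isDerivedComplete_iff_perpL fs M).1 hM) h)
    hζ.universal
  intro G i hyp
  exact subsingleton_hom_of_iso_right ((shiftFunctor (Dual.D A) i).mapIso e) (hb G i hyp)

end Groth.Agent.H9.DC
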