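import Mathlib
import Groth.Agent.H9.DC.Cone
import Groth.Agent.H9.DC.CoLocal
import Groth.Agent.H9.RG.Adj
import Groth.Agent.H9.RG.Smul
import Groth.Agent.H9.RG.NoethD

/-!
# Greenlees–May, part 1: `RΓ_I(K) ≅ RΓ_I(K^∧)` (helper9)
-/

set_option autoImplicit false
universe u

open CategoryTheory CategoryTheory.Limits CategoryTheory.Pretriangulated

attribute [local instance] HasDerivedCategory.standard

namespace Groth.Agent.H9.DC

open DerivedCategory Groth.Agent.H9.RG

variable {A : Type u} [CommRing A] (I : Ideal A) [DRing.HasRgammaI I]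

/-- `RΓ_I` kills objects on which some `f ∈ I` is invertible -/
theorem isZero_RgammaI_of_inv {f : A} (hf : f ∈ I) (N : Dual.D A) (hN : Inv f N) :
    IsZero ((DRing.RgammaI I).obj N) := by
  obtain ⟨J, hJ, -, ⟨e⟩⟩ := exists_rep N
  have hN' : Inv f (Q.obj J) := hN.of_iso e
  have hisoJ : IsIso (Q.map (f • 𝟙 J)) := by
    rw [Functor.map_smul, CategoryTheory.Functor.map_id]
    exact hN'
  have hu : IsIso (u I J) := isIso_u I J hJ
  have hq : IsIso (Q.map ((Γc I).map (f • 𝟙 J))) := by
    have nat := u_naturality I (f • 𝟙 J)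
    have : Q.map ((Γc I).map (f • 𝟙 J)) =
        u I J ≫ (DRing.RgammaI I).map (Q.map (f • 𝟙 J)) ≫ inv (u I J) := by
      rw [← Category.assoc, ← nat, Category.assoc, IsIso.hom_inv_id, Category.comp_id]
    rw [this]
    infer_instance
  rw [isIso_Q_map_iff_quasiIso, Γc_map_smul] at hq
  have hz : IsZero (Q.obj ((Γc I).obj J)) :=
    isZero_Q_obj_of_isZero_homology _ (fun n =>
      isZero_homology_of_quasiIsoAt_smul _ f n (hq.quasiIsoAt n)
        (fun y => exists_pow_smul_eq_zero_of_mem I hf (J.X n) y))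
  exact IsZero.of_iso hz ((DRing.RgammaI I).mapIso e ≪≫ (asIso (u I J)).symm)

/-- objects with `I`-power torsion cohomology are left orthogonal to `Inv f`, `f ∈ I` -/
theorem lperp_of_torsP [IsNoetherianRing A] {f : A} (hf : f ∈ I) (G : Dual.D A)
    (hG : TorsP I G) : LPerp f G := by
  intro N hN a
  have hz := isZero_RgammaI_of_inv I hf N hN
  let G' : (TorsP I).FullSubcategory := ⟨G, hG⟩
  have h1 : a = ((adj I).homEquiv G' N).symm ((adj I).homEquiv G' N a) :=
    (Equiv.symm_apply_apply _ _).symm
  rw [h1, Adjunction.homEquiv_counit]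
  have : (ObjectProperty.ι (TorsP I)).map ((adj I).homEquiv G' N a) = 0 := hz.eq_of_tgt _ _
  rw [this, zero_comp]

/-- a morphism inducing bijections on `Hom(G, -)` for torsion `G` becomes an isomorphism after `RΓ_I` -/
theorem isIso_RgammaI_map_of_coLocal [IsNoetherianRing A] {X C : Dual.D A} (η : X ⟶ C)
    (h : ∀ G : Dual.D A, TorsP I G → Function.Bijective (fun g : G ⟶ X => g ≫ η)) :
    IsIso ((DRing.RgammaI I).map η) := by
  let R := ObjectProperty.lift (TorsP I) (DRing.RgammaI I) (torsP_RgammaI I)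
  have hb : ∀ G' : (TorsP I).FullSubcategory,
      Function.Bijective (fun g : G' ⟶ R.obj X => g ≫ R.map η) := by
    intro G'
    have key : (fun g : G' ⟶ R.obj X => g ≫ R.map η) =
        (adj I).homEquiv G' C ∘ (fun g : G'.obj ⟶ X => g ≫ η) ∘ ((adj I).homEquiv G' X).symm := by
      funext g
      simp only [Function.comp_apply]
      rw [Adjunction.homEquiv_naturality_right, Equiv.apply_symm_apply]
    rw [key]
    exact (Equiv.bijective _).comp ((h G'.obj G'.property).comp (Equiv.bijective _))
  have hiso : IsIso (R.map η) := by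
    obtain ⟨s, hs⟩ := (hb (R.obj C)).2 (𝟙 _)
    change s ≫ R.map η = 𝟙 _ at hs
    refine ⟨s, ?_, hs⟩
    apply (hb (R.obj X)).1
    show (R.map η ≫ s) ≫ R.map η = 𝟙 _ ≫ R.map η
    rw [Category.assoc, hs, Category.comp_id, Category.id_comp]
  show IsIso ((ObjectProperty.ι (TorsP I)).map (R.map η))
  infer_instance

/-- **Greenlees–May (1)**: `RΓ_I(K) ⟶ RΓ_I(K^∧)` is an isomorphism -/
theorem isIso_RgammaI_map_toDerivedCompletion [IsNoetherianRing A] [DRing.HasDerivedCompletion I]
    (K : Dual.D A) : IsIso ((DRing.RgammaI I).map (DRing.toDerivedCompletion I K)) := by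
  classical
  obtain ⟨s, hs⟩ := (IsNoetherian.noetherian I : I.FG)
  have hfs : Ideal.span {x | x ∈ s.toList} = I := by
    rw [← hs]
    congr 1
    ext x
    simp
  obtain ⟨C, η, hC, hu, -, hc⟩ := exists_completion_full (A := A) nonempty_powData s.toList K
  have hC' : DRing.IsDerivedComplete I C := by
    rw [← hfs]
    exact (isDerivedComplete_iff_perpL _ C).2 hC
  obtain ⟨e, he⟩ := exists_iso_of_universal (DRing.IsDerivedComplete I)
    η (DRing.toDerivedCompletion I K) hC'
    ((DRing.derivedCompletion I).obj K).property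
    (fun M hM h => hu M ((isDerivedComplete_iff_perpL _ M).1 (by rw [hfs]; exact hM)) h)
    (toDerivedCompletion_universal I K)
  apply isIso_RgammaI_map_of_coLocal
  intro G hG
  have h1 := hc G (fun f hf => lperp_of_torsP I (by
    rw [← hfs]
    exact Ideal.subset_span hf) G hG)
  have : (fun g : G ⟶ K => g ≫ DRing.toDerivedCompletion I K) =
      (fun g : G ⟶ C => g ≫ e.hom) ∘ (fun g : G ⟶ K => g ≫ η) := by
    funext g
    simp only [Function.comp_apply, Category.assoc, he]
  rw [this]
  refine Function.Bijective.comp ?_ h1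
  constructor
  · intro g g' hgg'
    exact (cancel_mono e.hom).1 hgg'
  · intro g
    exact ⟨g ≫ e.inv, by simp⟩

end Groth.Agent.H9.DC
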