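import Mathlib
import Groth.Agent.H9.DC.GM
import Groth.Agent.H9.RG.Div

/-!
# Greenlees–May, part 2: `RΓ_I(K) ⟶ K` is a local equivalence for derived complete objects (helper9)
-/

set_option autoImplicit false
universe v' u' u

open CategoryTheory CategoryTheory.Limits CategoryTheory.Pretriangulated

attribute [local instance] HasDerivedCategory.standard

namespace Groth.Agent.H9.DC

open DerivedCategory Groth.Agent.H9.RG

section LocEqLemmas

variable {T : Type u'} [Category.{v'} T]

lemma LocEq.of_isIso (P : T → Prop) {X C : T} (η : X ⟶ C) [IsIso η] : LocEq P η := by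
  intro M _
  constructor
  · intro g g' h
    exact (cancel_epi η).1 h
  · intro k
    exact ⟨inv η ≫ k, by simp⟩

lemma LocEq.comp {P : T → Prop} {X Y Z : T} {a : X ⟶ Y} {b : Y ⟶ Z} (ha : LocEq P a)
    (hb : LocEq P b) : LocEq P (a ≫ b) := by
  intro M hM
  have : (fun g : Z ⟶ M => (a ≫ b) ≫ g) =
      (fun g : Y ⟶ M => a ≫ g) ∘ (fun g : Z ⟶ M => b ≫ g) := by
    funext g
    simp
  rw [this]
  exact (ha M hM).comp (hb M hM)

lemma LocEq.mono {P P' : T → Prop} (h : ∀ M, P M → P' M) {X C : T} {η : X ⟶ C}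
    (hη : LocEq P' η) : LocEq P η :=
  fun M hM => hη M (h M hM)

end LocEqLemmas

variable {A : Type u} [CommRing A]

section Principal

variable (Y : Cx A)

lemma ιc_f_injective (I : Ideal A) (n : ℤ) : Function.Injective ((ιc I Y).f n) := by
  intro y y' h
  rw [ιc_f_apply, ιc_f_apply] at h
  exact Subtype.ext h

instance mono_ιc (I : Ideal A) : Mono (ιc I Y) := by
  have : ∀ n, Mono ((ιc I Y).f n) := fun n =>
    (ModuleCat.mono_iff_injective _).2 (ιc_f_injective Y I n)
  exact HomologicalComplex.mono_of_mono_f _ this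

/-- `0 ⟶ Γ_I Y ⟶ Y ⟶ Y / Γ_I Y ⟶ 0` -/
noncomputable def sesΓ (I : Ideal A) : ShortComplex (Cx A) :=
  ShortComplex.mk (ιc I Y) (cokernel.π (ιc I Y)) (cokernel.condition _)

lemma sesΓ_shortExact (I : Ideal A) : (sesΓ Y I).ShortExact where
  exact := ShortComplex.exact_cokernel _
  mono_f := mono_ιc Y I
  epi_g := by dsimp [sesΓ]; infer_instance

variable (g : A)

lemma smul_bijective_coker (hY : TermDiv Y) (n : ℤ) :
    Function.Bijective (fun c : (cokernel (ιc (Ideal.span {g}) Y)).X n => g • c) := by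
  have hS := (sesΓ_shortExact Y (Ideal.span {g})).map_of_exact
    (HomologicalComplex.eval (ModuleCat.{u} A) (ComplexShape.up ℤ) n)
  let π : Y.X n ⟶ (cokernel (ιc (Ideal.span {g}) Y)).X n := (cokernel.π (ιc (Ideal.span {g}) Y)).f n
  let ι : ((Γc (Ideal.span {g})).obj Y).X n ⟶ Y.X n := (ιc (Ideal.span {g}) Y).f n
  have hπ : Function.Surjective π := (ModuleCat.epi_iff_surjective _).1 hS.epi_g
  have hex : ∀ y : Y.X n, π y = 0 → ∃ t, ι t = y :=
    (ShortComplex.moduleCat_exact_iff _).1 hS.exact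
  have hzero : ∀ t, π (ι t) = 0 := by
    intro t
    have := congrArg (fun φ => (φ.f n) t) (cokernel.condition (ιc (Ideal.span {g}) Y))
    exact this
  have hmem : ∀ y : Y.X n, y ∈ DRing.torsionSub (Ideal.span {g}) (Y.X n) → π y = 0 := by
    intro y hy
    exact hzero ⟨y, hy⟩
  have hker : ∀ c : (cokernel (ιc (Ideal.span {g}) Y)).X n, g • c = 0 → c = 0 := by
    intro c hc
    obtain ⟨y, rfl⟩ := hπ c
    rw [← map_smul] at hc
    obtain ⟨t, ht⟩ := hex _ hc
    obtain ⟨m, hm⟩ := (t : DRing.torsionSub (Ideal.span {g}) (Y.X n)).2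
    have h1 : g ^ m • (g • y) = 0 := by
      rw [← ht]
      exact hm _ (Ideal.pow_mem_pow (Ideal.mem_span_singleton_self g) m)
    apply hmem
    apply mem_torsionSub_singleton y (m + 1)
    rw [pow_succ, mul_smul]
    exact h1
  constructor
  · intro c c' hcc'
    have : g • (c - c') = 0 := by
      rw [smul_sub]
      exact sub_eq_zero.2 hcc'
    exact sub_eq_zero.1 (hker _ this)
  · intro c
    obtain ⟨y, rfl⟩ := hπ c
    obtain ⟨y', k, hk⟩ := (hY n).self g y 1
    refine ⟨π y', ?_⟩
    show g • π y' = π y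
    have h1 : g ^ k • (g • y' - y) = 0 := by
      rw [smul_sub, ← mul_smul, ← pow_succ, hk, sub_self]
    have h2 := hmem _ (mem_torsionSub_singleton _ k h1)
    rw [map_sub, map_smul] at h2
    exact sub_eq_zero.1 h2

lemma inv_Q_coker (hY : TermDiv Y) : Inv g (Q.obj (cokernel (ιc (Ideal.span {g}) Y))) := by
  have hiso : IsIso (g • 𝟙 (cokernel (ιc (Ideal.span {g}) Y))) := by
    have : ∀ n, IsIso ((g • 𝟙 (cokernel (ιc (Ideal.span {g}) Y))).f n) := fun n => by
      rw [ConcreteCategory.isIso_iff_bijective]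
      exact smul_bijective_coker Y g hY n
    exact HomologicalComplex.Hom.isIso_of_components _
  unfold Inv
  have : g • 𝟙 (Q.obj (cokernel (ιc (Ideal.span {g}) Y))) =
      Q.map (g • 𝟙 (cokernel (ιc (Ideal.span {g}) Y))) := by
    rw [Functor.map_smul, CategoryTheory.Functor.map_id]
  rw [this]
  infer_instance

theorem locEq_Q_ιc_singleton (hY : TermDiv Y) :
    LocEq (Perp g) (Q.map (ιc (Ideal.span {g}) Y)) := by
  intro M hM
  have hS := sesΓ_shortExact Y (Ideal.span {g})
  exact bijective_precomp_of_inv_cone _ _ _ (triangleOfSES_distinguished hS) g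
    (inv_Q_coker Y g hY) hM

lemma isIso_ιc_of_forall_mem (I : Ideal A)
    (h : ∀ (n : ℤ) (y : Y.X n), y ∈ DRing.torsionSub I (Y.X n)) : IsIso (ιc I Y) := by
  have : ∀ n, IsIso ((ιc I Y).f n) := fun n => by
    rw [ConcreteCategory.isIso_iff_bijective]
    refine ⟨ιc_f_injective Y I n, fun y => ⟨⟨y, h n y⟩, rfl⟩⟩
  exact HomologicalComplex.Hom.isIso_of_components _

end Principal

theorem locEq_Q_ιc (fs : List A) : ∀ (Y : Cx A), TermDiv Y →
    LocEq (PerpL fs) (Q.map (ιc (Ideal.span {x | x ∈ fs}) Y)) := by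
  induction fs with
  | nil =>
    intro Y _
    have : IsIso (ιc (Ideal.span {x | x ∈ ([] : List A)}) Y) := by
      apply isIso_ιc_of_forall_mem
      intro n y
      have hI : Ideal.span {x : A | x ∈ ([] : List A)} = ⊥ := by simp
      rw [hI]
      exact mem_torsionSub_bot y
    exact LocEq.of_isIso _ _
  | cons g fs ih =>
    intro Y hY
    have hI : Ideal.span {x | x ∈ g :: fs} = Ideal.span {x | x ∈ fs} ⊔ Ideal.span {g} := by
      rw [← Ideal.span_union]
      congr 1
      ext x
      simp [or_comm]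
    rw [hI]
    have e : ιc (Ideal.span {x | x ∈ fs} ⊔ Ideal.span {g}) Y =
        (θ (Ideal.span {x | x ∈ fs}) (Ideal.span {g}) Y).inv ≫
          ιc (Ideal.span {g}) ((Γc (Ideal.span {x | x ∈ fs})).obj Y) ≫
          ιc (Ideal.span {x | x ∈ fs}) Y := by
      rw [← θ_hom_ιc, Iso.inv_hom_id_assoc]
    rw [e, Functor.map_comp, Functor.map_comp]
    refine LocEq.comp (LocEq.of_isIso _ _) (LocEq.comp ?_ ?_)
    · exact LocEq.mono (fun M hM => hM g List.mem_cons_self)
        (locEq_Q_ιc_singleton _ g (termDiv_Γc _ hY))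
    · exact LocEq.mono (fun M hM f hf => hM f (List.mem_cons_of_mem _ hf)) (ih Y hY)

/-- `ε : RΓ_I K ⟶ K` induces bijections on `Hom(-, M)` for derived complete `M` -/
theorem locEq_RgammaIε [IsNoetherianRing A] (fs : List A)
    [DRing.HasRgammaI (Ideal.span {x | x ∈ fs})] (K : Dual.D A) :
    LocEq (PerpL fs) ((DRing.RgammaIε (Ideal.span {x | x ∈ fs})).app K) := by
  obtain ⟨J, hJ, hinj, ⟨e⟩⟩ := exists_rep K
  have nat := (DRing.RgammaIε (Ideal.span {x | x ∈ fs})).naturality e.hom
  have uε := u_comp_ε (Ideal.span {x | x ∈ fs}) J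
  have hu : IsIso (u (Ideal.span {x | x ∈ fs}) J) := isIso_u _ J hJ
  have key : (DRing.RgammaIε (Ideal.span {x | x ∈ fs})).app K =
      (DRing.RgammaI (Ideal.span {x | x ∈ fs})).map e.hom ≫ inv (u (Ideal.span {x | x ∈ fs}) J) ≫
        Q.map (ιc (Ideal.span {x | x ∈ fs}) J) ≫ e.inv := by
    rw [← uε, Category.assoc, IsIso.inv_hom_id_assoc, ← Category.assoc, nat]
    simp
  rw [key]
  refine LocEq.comp (LocEq.of_isIso _ _) (LocEq.comp (LocEq.of_isIso _ _)
    (LocEq.comp ?_ (LocEq.of_isIso _ _)))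
  exact locEq_Q_ιc fs J (termDiv_of_termInj hinj)

/-- **Greenlees–May (2)**: the completion of `RΓ_I(K) ⟶ K` is an isomorphism -/
theorem isIso_derivedCompletion_map_ε [IsNoetherianRing A] (I : Ideal A) [DRing.HasRgammaI I]
    [DRing.HasDerivedCompletion I] (K : Dual.D A) :
    IsIso ((DRing.derivedCompletion I).map ((DRing.RgammaIε I).app K)) := by
  classical
  obtain ⟨s, hs⟩ := (IsNoetherian.noetherian I : I.FG)
  have hfs : Ideal.span {x | x ∈ s.toList} = I := by
    rw [← hs]
    congr 1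
    ext x
    simp
  subst hfs
  set I := Ideal.span {x | x ∈ s.toList} with hIdef
  have hε : LocEq (DRing.IsDerivedComplete I) ((DRing.RgammaIε I).app K) :=
    LocEq.mono (fun M hM => (isDerivedComplete_iff_perpL _ M).1 hM) (locEq_RgammaIε s.toList K)
  let c := DRing.derivedCompletion I
  let adj := DRing.derivedCompletionAdj I
  let ε := (DRing.RgammaIε I).app K
  have hb : ∀ M' : DRing.DComp I,
      Function.Bijective (fun g : c.obj K ⟶ M' => c.map ε ≫ g) := by
    intro M'
    have key : (fun g : c.obj K ⟶ M' => c.map ε ≫ g) =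
        (adj.homEquiv _ M').symm ∘ (fun g : K ⟶ M'.obj => ε ≫ g) ∘ (adj.homEquiv K M') := by
      funext g
      apply (adj.homEquiv _ M').injective
      simp only [Function.comp_apply, Equiv.apply_symm_apply]
      exact adj.homEquiv_naturality_left ε g
    rw [key]
    exact (Equiv.bijective _).comp ((hε M'.obj M'.property).comp (Equiv.bijective _))
  obtain ⟨s', hs'⟩ := (hb (c.obj _)).2 (𝟙 _)
  change c.map ε ≫ s' = 𝟙 _ at hs'
  refine ⟨s', hs', ?_⟩
  apply (hb (c.obj K)).1
  show c.map ε ≫ s' ≫ c.map ε = c.map ε ≫ 𝟙 _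
  rw [← Category.assoc, hs', Category.id_comp, Category.comp_id]

end Groth.Agent.H9.DC
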