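import Mathlib
import Groth.Agent.H9.DC.Concrete
import Groth.Agent.H84.RHomUnit
import Groth.Prelude.Def_DRing4

/-!
# `Hom•(K, -)` commutes with countable powers; derived completeness of `Hom•(K, E)` (helper9)
-/

set_option autoImplicit false
universe u

open CategoryTheory CategoryTheory.Limits CategoryTheory.Pretriangulated

attribute [local instance] HasDerivedCategory.standard

namespace Groth.Agent.H9.DC

open Groth.Agent.H35 Groth.Agent.H9.RG DerivedCategory CochainComplex HomComplex

variable {A : Type u} [CommRing A] (K E : Cx A)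

/-- coordinates of a cochain with values in the power complex -/
noncomputable def cochainPowEquiv (n : ℤ) : Cochain K (powCx E) n ≃ₗ[A] (ℕ → Cochain K E n) where
  toFun z k := z.comp (Cochain.ofHom (projCx E k)) (add_zero n)
  map_add' z z' := by
    funext k
    simp
  map_smul' a z := by
    funext k
    simp
  invFun w := Cochain.mk (fun p q hpq =>
    ModuleCat.ofHom (LinearMap.pi (fun k => ((w k).v p q hpq).hom)))
  left_inv z := by
    ext p q hpq x
    funext k
    simp [Cochain.comp_zero_cochain_v]
    rfl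
  right_inv w := by
    funext k
    ext p q hpq x
    simp [Cochain.comp_zero_cochain_v]
    rfl

lemma cochainPowEquiv_apply (n : ℤ) (z : Cochain K (powCx E) n) (k : ℕ) :
    cochainPowEquiv K E n z k = z.comp (Cochain.ofHom (projCx E k)) (add_zero n) := rfl

/-- `Hom•(K, E^ℕ) ≅ Hom•(K, E)^ℕ` -/
noncomputable def homPowIso : DRing.homCx K (powCx E) ≅ powCx (DRing.homCx K E) :=
  HomologicalComplex.Hom.isoOfComponents
    (fun n => (cochainPowEquiv K E n).toModuleIso) (by
      intro i j _
      ext z
      funext k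
      show δ i j (cochainPowEquiv K E i z k) = (cochainPowEquiv K E j (δ i j z)) k
      rw [cochainPowEquiv_apply, cochainPowEquiv_apply]
      exact δ_comp_ofHom z (projCx E k) j)

lemma homPowIso_hom_f_apply (n : ℤ) (z : Cochain K (powCx E) n) (k : ℕ) :
    ((homPowIso K E).hom.f n).hom z k = z.comp (Cochain.ofHom (projCx E k)) (add_zero n) := rfl

/-- compatibility of `homPowIso` with `Phi` -/
lemma homPowIso_Phi (f : A) :
    DRing.homCxMap K (PhiCx E f) ≫ (homPowIso K E).hom =
      (homPowIso K E).hom ≫ PhiCx (DRing.homCx K E) f := by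
  ext n z
  funext k
  show ((z : Cochain K (powCx E) n).comp (Cochain.ofHom (PhiCx E f)) (add_zero n)).comp
      (Cochain.ofHom (projCx E k)) (add_zero n) =
    z.comp (Cochain.ofHom (projCx E k)) (add_zero n) -
      f • z.comp (Cochain.ofHom (projCx E (k + 1))) (add_zero n)
  rw [Cochain.comp_assoc_of_third_is_zero_cochain, ← Cochain.ofHom_comp, PhiCx_projCx,
    Cochain.ofHom_sub, Cochain.comp_sub]
  congr 1
  have : Cochain.ofHom (f • projCx E (k + 1)) = f • Cochain.ofHom (projCx E (k + 1)) := by
    ext p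
    simp
  rw [this, Cochain.comp_smul]

variable {K E}

lemma isKInjective_powCx (hE : E.IsKInjective) : (powCx E).IsKInjective :=
  Groth.Agent.H6.DerivedProd.isKInjective_of_isLimit (powFan E) (powFanIsLimit E) (fun _ => hE)

/-- converse of `quasiIso_PhiCx` -/
lemma bijective_Phi_of_quasiIso_PhiCx (X : Cx A) (f : A) (h : QuasiIso (PhiCx X f)) (n : ℤ) :
    Function.Bijective (Phi f (X.homology n)) := by
  have hq : QuasiIsoAt (PhiCx X f) n := (quasiIso_iff _).1 h n
  rw [quasiIsoAt_iff, ShortComplex.quasiIso_iff] at hq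
  have h1 := NatTrans.app_homology (PhiNat f) (X.sc n)
  have h3 : ShortComplex.homologyMap ((X.sc n).mapNatTrans (PhiNat f)) =
      ((X.sc n).mapHomologyIso powFunctor).hom ≫ (PhiNat f).app (X.sc n).homology ≫
        ((X.sc n).mapHomologyIso powFunctor).inv := by
    rw [h1]
    simp
  change IsIso (ShortComplex.homologyMap ((X.sc n).mapNatTrans (PhiNat f))) at hq
  rw [h3] at hq
  have h4 : IsIso ((PhiNat f).app (X.sc n).homology ≫
      ((X.sc n).mapHomologyIso powFunctor).inv) := IsIso.of_isIso_comp_left
        ((X.sc n).mapHomologyIso powFunctor).hom _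
  have h5 : IsIso ((PhiNat f).app (X.sc n).homology) := IsIso.of_isIso_comp_right _
    ((X.sc n).mapHomologyIso powFunctor).inv
  exact (ConcreteCategory.isIso_iff_bijective _).1 h5

theorem perp_Q_of_quasiIso_PhiCx (X : Cx A) (f : A) (h : QuasiIso (PhiCx X f)) :
    Perp f (Q.obj X) :=
  (perp_iff f _).2 ((subsingleton_away_hom_shift_Q_iff f X).2
    (fun n => bijective_Phi_of_quasiIso_PhiCx X f h n))

theorem quasiIso_PhiCx_of_perp (X : Cx A) (f : A) (h : Perp f (Q.obj X)) : QuasiIso (PhiCx X f) :=
  quasiIso_PhiCx X f ((subsingleton_away_hom_shift_Q_iff f X).1 ((perp_iff f _).1 h))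

/-- `Hom•(K, E)` is derived `f`-complete when the K-injective complex `E` is -/
theorem perp_Q_homCx (K : Cx A) (E : Cx A) (hE : E.IsKInjective) (f : A) (h : Perp f (Q.obj E)) :
    Perp f (Q.obj (DRing.homCx K E)) := by
  have hq : QuasiIso (PhiCx E f) := quasiIso_PhiCx_of_perp E f h
  haveI := isKInjective_powCx hE
  have hh : HomologicalComplex.homotopyEquivalences _ _ (PhiCx E f) :=
    (CochainComplex.IsKInjective.quasiIso_iff (PhiCx E f)).1 hq
  have hq2 : QuasiIso (DRing.homCxMap K (PhiCx E f)) :=
    Groth.Agent.H84.RHom.quasiIso_homCxMap_of_homotopyEquivalences K (PhiCx E f) hh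
  apply perp_Q_of_quasiIso_PhiCx
  have e : PhiCx (DRing.homCx K E) f =
      (homPowIso K E).inv ≫ DRing.homCxMap K (PhiCx E f) ≫ (homPowIso K E).hom := by
    rw [homPowIso_Phi, Iso.inv_hom_id_assoc]
  rw [e]
  infer_instance

end Groth.Agent.H9.DC
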