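import Mathlib
import Groth.Agent.H9.DC.HomPow

/-!
# `Hom•(K, -)` and degreewise split short exact sequences (helper9)
-/

set_option autoImplicit false
universe u

open CategoryTheory CategoryTheory.Limits CategoryTheory.Pretriangulated

attribute [local instance] HasDerivedCategory.standard

namespace Groth.Agent.H9.DC

open Groth.Agent.H9.RG DerivedCategory CochainComplex HomComplex

variable {A : Type u} [CommRing A] (K : Cx A)

lemma homCxMap_f_apply {L L' : Cx A} (f : L ⟶ L') (n : ℤ) (z : Cochain K L n) :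
    ((DRing.homCxMap K f).f n).hom z = z.comp (Cochain.ofHom f) (add_zero n) := rfl

instance homCxFunctor_additive : (DRing.homCxFunctor K).Additive where
  map_add {L L' f g} := by
    ext n z
    show (z : Cochain K L n).comp (Cochain.ofHom (f + g)) (add_zero n) =
      z.comp (Cochain.ofHom f) (add_zero n) + z.comp (Cochain.ofHom g) (add_zero n)
    rw [Cochain.ofHom_add, Cochain.comp_add]

instance homCxFunctor_linear : (DRing.homCxFunctor K).Linear A where
  map_smul {L L'} f a := by
    ext n z
    show (z : Cochain K L n).comp (Cochain.ofHom (a • f)) (add_zero n) =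
      a • z.comp (Cochain.ofHom f) (add_zero n)
    have : Cochain.ofHom (a • f) = a • Cochain.ofHom f := by
      ext p
      simp
    rw [this, Cochain.comp_smul]

/-- `Hom•(K, -)` maps degreewise split short exact sequences to short exact sequences -/
theorem homCx_shortExact (S : ShortComplex (Cx A))
    (σ : ∀ n, (S.map (HomologicalComplex.eval _ _ n)).Splitting) :
    (S.map (DRing.homCxFunctor K)).ShortExact := by
  obtain ⟨r, s, fr, sg, hid⟩ : ∃ (r : ∀ q, S.X₂.X q ⟶ S.X₁.X q) (s : ∀ q, S.X₃.X q ⟶ S.X₂.X q),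
      (∀ q, S.f.f q ≫ r q = 𝟙 (S.X₁.X q)) ∧ (∀ q, s q ≫ S.g.f q = 𝟙 (S.X₃.X q)) ∧
        ∀ q, r q ≫ S.f.f q + S.g.f q ≫ s q = 𝟙 (S.X₂.X q) :=
    ⟨fun q => (σ q).r, fun q => (σ q).s, fun q => (σ q).f_r, fun q => (σ q).s_g,
      fun q => (σ q).id⟩
  apply HomologicalComplex.shortExact_of_degreewise_shortExact
  intro n
  have hinj : Function.Injective ((DRing.homCxMap K S.f).f n).hom := by
    intro (z : Cochain K S.X₁ n) (z' : Cochain K S.X₁ n) h
    rw [homCxMap_f_apply, homCxMap_f_apply] at h
    show z = z'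
    refine Cochain.ext _ _ (fun p q hpq => ?_)
    have h1 := congrArg (fun (w : Cochain K S.X₂ n) => w.v p q hpq ≫ r q) h
    simp only [Cochain.comp_zero_cochain_v, Cochain.ofHom_v, Category.assoc] at h1
    rw [fr q, Category.comp_id, Category.comp_id] at h1
    exact h1
  have hsurj : Function.Surjective ((DRing.homCxMap K S.g).f n).hom := by
    intro (w : Cochain K S.X₃ n)
    refine ⟨Cochain.mk (fun p q hpq => (w : Cochain K S.X₃ n).v p q hpq ≫ s q), ?_⟩
    rw [homCxMap_f_apply]
    show _ = w
    refine Cochain.ext _ _ (fun p q hpq => ?_)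
    simp only [Cochain.comp_zero_cochain_v, Cochain.ofHom_v, Cochain.mk_v, Category.assoc]
    rw [sg q, Category.comp_id]
  have hex : ∀ z : Cochain K S.X₂ n, ((DRing.homCxMap K S.g).f n).hom z = 0 →
      ∃ y : Cochain K S.X₁ n, ((DRing.homCxMap K S.f).f n).hom y = z := by
    intro z hz0
    rw [homCxMap_f_apply] at hz0
    have hz : z.comp (Cochain.ofHom S.g) (add_zero n) = (0 : Cochain K S.X₃ n) := hz0
    refine ⟨Cochain.mk (fun p q hpq => z.v p q hpq ≫ r q), ?_⟩
    rw [homCxMap_f_apply]
    show _ = z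
    refine Cochain.ext _ _ (fun p q hpq => ?_)
    simp only [Cochain.comp_zero_cochain_v, Cochain.ofHom_v, Cochain.mk_v, Category.assoc]
    have h1 := congrArg (fun (w : Cochain K S.X₃ n) => w.v p q hpq ≫ s q) hz
    simp only [Cochain.comp_zero_cochain_v, Cochain.ofHom_v, Category.assoc, Cochain.zero_v,
      zero_comp] at h1
    have h2 : z.v p q hpq = z.v p q hpq ≫ (r q ≫ S.f.f q + S.g.f q ≫ s q) := by
      rw [hid q, Category.comp_id]
    rw [Preadditive.comp_add, h1, add_zero] at h2
    exact h2.symm
  exact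
    { exact := (ShortComplex.moduleCat_exact_iff _).2 hex
      mono_f := (ModuleCat.mono_iff_injective _).2 hinj
      epi_g := (ModuleCat.epi_iff_surjective _).2 hsurj }

end Groth.Agent.H9.DC
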