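import Mathlib
import Groth.Agent.H9.DC.HomSES
import Groth.Agent.H9.DC.GMEps

/-!
# `Hom•(K, -)` and mapping cones: `Q Hom•(K, φ)` is a local equivalence when the cone of `φ`
is in `Inv f` (helper9)
-/

set_option autoImplicit false
universe u

open CategoryTheory CategoryTheory.Limits CategoryTheory.Pretriangulated

attribute [local instance] HasDerivedCategory.standard

namespace Groth.Agent.H9.DC

open Groth.Agent.H9.RG DerivedCategory CochainComplex HomComplex

variable {A : Type u} [CommRing A] (K : Cx A)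

lemma isKInjective_mappingCone {E E' : Cx A} (φ : E ⟶ E') (hE : E.IsKInjective)
    (hE' : E'.IsKInjective) : (mappingCone φ).IsKInjective := by
  rw [isKInjective_iff_rightOrthogonal]
  exact (HomotopyCategory.subcategoryAcyclic _).rightOrthogonal.ext_of_isTriangulatedClosed₃
    _ (HomotopyCategory.mappingCone_triangleh_distinguished φ)
    (IsKInjective.rightOrthogonal E) (IsKInjective.rightOrthogonal E')

/-- `Hom•(K, E)` is `f`-local when the K-injective complex `E` is -/
theorem inv_Q_homCx (E : Cx A) (hE : E.IsKInjective) (f : A) (h : Inv f (Q.obj E)) :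
    Inv f (Q.obj (DRing.homCx K E)) := by
  have h1 : IsIso (Q.map (f • 𝟙 E)) := by
    rw [Functor.map_smul, CategoryTheory.Functor.map_id]
    exact h
  rw [isIso_Q_map_iff_quasiIso] at h1
  have hh : HomologicalComplex.homotopyEquivalences _ _ (f • 𝟙 E) :=
    (CochainComplex.IsKInjective.quasiIso_iff (f • 𝟙 E)).1 h1
  have hq2 : QuasiIso (DRing.homCxMap K (f • 𝟙 E)) :=
    Groth.Agent.H84.RHom.quasiIso_homCxMap_of_homotopyEquivalences K (f • 𝟙 E) hh
  have e : DRing.homCxMap K (f • 𝟙 E) = f • 𝟙 (DRing.homCx K E) := by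
    have := (DRing.homCxFunctor K).map_smul f (𝟙 E)
    rw [CategoryTheory.Functor.map_id] at this
    exact this
  rw [e, ← isIso_Q_map_iff_quasiIso, Functor.map_smul, CategoryTheory.Functor.map_id] at hq2
  exact hq2

variable {E E' : Cx A} (φ : E ⟶ E')

/-- the short exact sequence `Hom•(K, E') → Hom•(K, cone φ) → Hom•(K, E[1])` -/
noncomputable def sesHom : ShortComplex (Cx A) :=
  (mappingCone.triangleRotateShortComplex φ).map (DRing.homCxFunctor K)

lemma sesHom_shortExact : (sesHom K φ).ShortExact :=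
  homCx_shortExact K _ (mappingCone.triangleRotateShortComplexSplitting φ)

/-- the morphism of short complexes from the sequence of `𝟙 E` to the sequence of `φ` -/
noncomputable def rotSCMap :
    mappingCone.triangleRotateShortComplex (𝟙 E) ⟶ mappingCone.triangleRotateShortComplex φ where
  τ₁ := φ
  τ₂ := mappingCone.map (𝟙 E) φ (𝟙 E) φ (by simp)
  τ₃ := (𝟙 E)⟦(1 : ℤ)⟧'
  comm₁₂ := ((Pretriangulated.rotate _).map
    (mappingCone.triangleMap (𝟙 E) φ (𝟙 E) φ (by simp))).comm₁.symm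
  comm₂₃ := ((Pretriangulated.rotate _).map
    (mappingCone.triangleMap (𝟙 E) φ (𝟙 E) φ (by simp))).comm₂.symm

noncomputable def sesHomMap : sesHom K (𝟙 E) ⟶ sesHom K φ :=
  (DRing.homCxFunctor K).mapShortComplex.map (rotSCMap φ)

lemma isZero_Q_homCx_cone_id : IsZero (Q.obj (DRing.homCx K (mappingCone (𝟙 E)))) := by
  rw [IsZero.iff_id_eq_zero]
  have h1 := Groth.Agent.H84.RHom.homCxQ_map_eq_of_homotopy K (𝟙 (mappingCone (𝟙 E))) 0
    (mappingCone.homotopyToZeroOfId E)
  rw [CategoryTheory.Functor.map_id] at h1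
  rw [show (𝟙 (Q.obj (DRing.homCx K (mappingCone (𝟙 E))))) =
    𝟙 ((DRing.homCxQ K).obj (mappingCone (𝟙 E))) from rfl, h1]
  show Q.map ((DRing.homCxFunctor K).map 0) = 0
  rw [Functor.map_zero, Functor.map_zero]

lemma isIso_δ_id : IsIso (triangleOfSESδ (sesHom_shortExact K (𝟙 E))) := by
  have hd := triangleOfSES_distinguished (sesHom_shortExact K (𝟙 E))
  exact (Triangle.isZero₂_iff_isIso₃ _ hd).1 (isZero_Q_homCx_cone_id K)

lemma δ_id_comp : triangleOfSESδ (sesHom_shortExact K (𝟙 E)) ≫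
    (Q.map (DRing.homCxMap K φ))⟦(1 : ℤ)⟧' = triangleOfSESδ (sesHom_shortExact K φ) := by
  have h := triangleOfSESδ_naturality (sesHom_shortExact K (𝟙 E)) (sesHom_shortExact K φ)
    (sesHomMap K φ)
  have h3 : Q.map (sesHomMap K φ).τ₃ = 𝟙 (Q.obj (DRing.homCx K (E⟦(1 : ℤ)⟧))) := by
    show Q.map ((DRing.homCxFunctor K).map ((𝟙 E)⟦(1 : ℤ)⟧')) = 𝟙 _
    rw [CategoryTheory.Functor.map_id, CategoryTheory.Functor.map_id,
      CategoryTheory.Functor.map_id]
  refine h.trans ?_
  rw [h3]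
  exact Category.id_comp _


omit [CommRing A] in
lemma LocEq.unshift {T : Type*} [Category T] [HasShift T ℤ]
    {P : T → Prop} (hP : ∀ M, P M → ∀ n : ℤ, P (M⟦n⟧)) {X C : T} {η : X ⟶ C}
    (h : LocEq P (η⟦(1 : ℤ)⟧')) : LocEq P η := by
  have h1 := h.shift hP (-1)
  let i := shiftFunctorCompIsoId T (1 : ℤ) (-1) (by simp)
  have nat : η = (i.inv.app X) ≫ (η⟦(1 : ℤ)⟧')⟦(-1 : ℤ)⟧' ≫ i.hom.app C := by
    have h2 := i.hom.naturality η
    simp only [Functor.comp_map, Functor.id_map] at h2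
    rw [h2, ← Category.assoc, ← NatTrans.comp_app, Iso.inv_hom_id]
    simp
  rw [nat]
  exact (LocEq.of_isIso P _).comp (h1.comp (LocEq.of_isIso P _))

/-- the connecting morphism `Q Hom•(K, E[1]) ⟶ (Q Hom•(K, E'))[1]` -/
noncomputable def δHom :
    Q.obj (DRing.homCx K (E⟦(1 : ℤ)⟧)) ⟶ (Q.obj (DRing.homCx K E'))⟦(1 : ℤ)⟧ :=
  triangleOfSESδ (sesHom_shortExact K φ)

lemma isIso_δHom_id : IsIso (δHom K (𝟙 E)) := isIso_δ_id K

lemma δHom_id_comp :
    δHom K (𝟙 E) ≫ (Q.map (DRing.homCxMap K φ))⟦(1 : ℤ)⟧' = δHom K φ := δ_id_comp K φ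

/-- if the cone of `φ : E ⟶ E'` (K-injective complexes) is `f`-local, then `Q Hom•(K, φ)` is a
local equivalence with respect to derived `f`-complete objects -/
theorem locEq_Q_homCxMap (hE : E.IsKInjective) (hE' : E'.IsKInjective) (f : A)
    (h : Inv f (Q.obj (mappingCone φ))) :
    LocEq (Perp f (T := Dual.D A)) (Q.map (DRing.homCxMap K φ)) := by
  have hc : (mappingCone φ).IsKInjective := isKInjective_mappingCone φ hE hE'
  have hinv : Inv f (Q.obj (DRing.homCx K (mappingCone φ))) := inv_Q_homCx K _ hc f h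
  have hd := triangleOfSES_distinguished (sesHom_shortExact K φ)
  have hd2 := rot_of_distTriang _ (rot_of_distTriang _ hd)
  have hδ : LocEq (Perp f) (δHom K φ) := by
    intro M hM
    exact bijective_precomp_of_inv_cone _ _ _ hd2 f (hinv.shift 1) hM
  haveI := isIso_δHom_id K (E := E)
  have h2 : (Q.map (DRing.homCxMap K φ))⟦(1 : ℤ)⟧' = inv (δHom K (𝟙 E)) ≫ δHom K φ := by
    rw [IsIso.eq_inv_comp]
    exact δHom_id_comp K φ
  refine LocEq.unshift (P := Perp f) (fun M hM n => Perp.shift hM n) ?_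
  rw [h2]
  exact (LocEq.of_isIso _ _).comp hδ

end Groth.Agent.H9.DC
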