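import Mathlib
import Groth.Agent.H9.DC.CoLocal

/-!
# Induction principle along the completion tower (helper9)

The completion `X ⟶ C` with respect to a finite list `fs` is a finite composite of morphisms whose
cones lie in `Inv f`, `f ∈ fs`.  Hence any class of morphisms containing identities, stable under
composition and containing all morphisms with cone in `Inv f` (`f ∈ fs`) contains `X ⟶ C`.
-/

set_option autoImplicit false
universe w v u

open CategoryTheory CategoryTheory.Limits CategoryTheory.Pretriangulated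

namespace Groth.Agent.H9.DC

variable {A : Type w} [CommRing A]
  {T : Type u} [Category.{v} T] [Preadditive T] [Linear A T] [HasZeroObject T] [HasShift T ℤ]
  [∀ n : ℤ, (shiftFunctor T n).Additive] [∀ n : ℤ, (shiftFunctor T n).Linear A]
  [Pretriangulated T]

theorem exists_completion_tower (hP : ∀ X : T, Nonempty (PowData X)) (fs : List A)
    (W : ∀ ⦃X Y : T⦄, (X ⟶ Y) → Prop)
    (hid : ∀ X : T, W (𝟙 X))
    (hcomp : ∀ ⦃X Y Z : T⦄ (a : X ⟶ Y) (b : Y ⟶ Z), W a → W b → W (a ≫ b))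
    (hcone : ∀ f ∈ fs, ∀ ⦃X Y Z : T⦄ (a : X ⟶ Y) (b : Y ⟶ Z) (c : Z ⟶ X⟦(1 : ℤ)⟧),
      Triangle.mk a b c ∈ distTriang T → Inv f Z → W a) (X : T) :
    ∃ (C : T) (η : X ⟶ C), PerpL fs C ∧
      (∀ M : T, PerpL fs M → ∀ h : X ⟶ M, ∃! g : C ⟶ M, η ≫ g = h) ∧ W η := by
  induction fs with
  | nil =>
    refine ⟨X, 𝟙 X, fun f hf => absurd hf (List.not_mem_nil),
      fun M _ h => ⟨h, Category.id_comp h, ?_⟩, hid X⟩
    intro g hg
    rw [← hg, Category.id_comp]
  | cons f fs ih =>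
    obtain ⟨C₁, η₁, hC₁, hu₁, hw₁⟩ := ih
      (fun g hg X Y Z a b c hT hZ => hcone g (List.mem_cons_of_mem _ hg) a b c hT hZ)
    obtain ⟨D⟩ := hP C₁
    obtain ⟨Z, j, δ, hT₁⟩ := distinguished_cocone_triangle (D.Φ f)
    obtain ⟨C, η, β, hT₂⟩ := distinguished_cocone_triangle₂ (δ ≫ (D.π 0)⟦(1 : ℤ)⟧')
    refine ⟨C, η₁ ≫ η, ?_, ?_, ?_⟩
    · intro g hg
      rcases List.mem_cons.1 hg with rfl | hg'
      · exact perp_completion D g j δ hT₁ η β hT₂
      · exact perp_completion_of_perp D f j δ hT₁ η β hT₂ g (hC₁ g hg')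
    · intro M hM h
      obtain ⟨g₁, hg₁, hg₁u⟩ := hu₁ M (fun g hg => hM g (List.mem_cons_of_mem _ hg)) h
      obtain ⟨g, hg, hgu⟩ := completion_universal D f j δ hT₁ η β hT₂
        (hM f List.mem_cons_self) g₁
      refine ⟨g, ?_, ?_⟩
      · show (η₁ ≫ η) ≫ g = h
        rw [Category.assoc, hg, hg₁]
      · intro g' hg'
        apply hgu
        apply hg₁u
        show η₁ ≫ η ≫ g' = h
        rw [← Category.assoc]; exact hg'
    · exact hcomp _ _ hw₁ (hcone f List.mem_cons_self η β _ hT₂ (inv_cone D f j δ hT₁))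

end Groth.Agent.H9.DC
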