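import Mathlib
import Groth.Agent.H9.DC.HomCone
import Groth.Agent.H9.DC.Tower
import Groth.Agent.H9.DC.Cone
import Groth.Agent.H9.RG.NoethD
import Groth.Agent.H6.DerivedProd

/-!
# `RHom(K, -)` commutes with derived completion (helper9)
-/

set_option autoImplicit false
universe u

open CategoryTheory CategoryTheory.Limits CategoryTheory.Pretriangulated

attribute [local instance] HasDerivedCategory.standard

namespace Groth.Agent.H9.DC

open Groth.Agent.H9.RG DerivedCategory CochainComplex HomComplex Groth.Agent.H84.RHom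

variable {A : Type u} [CommRing A] (K : Cx A) [DRing.HasRHomCx K]

/-- naturality of `RHomCxIso` -/
@[reassoc]
lemma RHomCxIso_naturality {E E' : Cx A} (φ : E ⟶ E') (hE : E.IsKInjective)
    (hE' : E'.IsKInjective) :
    (DRing.RHomCx K).map (Q.map φ) ≫ (RHomCxIso K E' hE').hom =
      (RHomCxIso K E hE).hom ≫ Q.map (DRing.homCxMap K φ) := by
  have nat : Q.map (DRing.homCxMap K φ) ≫ (RHomCxIso K E' hE').inv =
      (RHomCxIso K E hE).inv ≫ (DRing.RHomCx K).map (Q.map φ) :=
    ((DRing.homCxQ K).totalRightDerivedUnit Q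
      (HomologicalComplex.quasiIso (ModuleCat.{u} A) (ComplexShape.up ℤ))).naturality φ
  rw [← cancel_epi (RHomCxIso K E hE).inv, ← Category.assoc, ← nat, Category.assoc,
    Iso.inv_hom_id, Category.comp_id, Iso.inv_hom_id_assoc]

/-- `RHom(K, a)` is a local equivalence for derived `f`-complete objects if the cone of `a` is
`f`-local -/
theorem locEq_RHomCx_map {X Y Z : Dual.D A} (a : X ⟶ Y) (b : Y ⟶ Z) (c : Z ⟶ X⟦(1 : ℤ)⟧)
    (hT : Triangle.mk a b c ∈ distTriang (Dual.D A)) (f : A) (hZ : Inv f Z) :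
    LocEq (Perp f (T := Dual.D A)) ((DRing.RHomCx K).map a) := by
  obtain ⟨E, hE, -, ⟨e₁⟩⟩ := exists_rep X
  obtain ⟨E', hE', -, ⟨e₂⟩⟩ := exists_rep Y
  haveI := hE'
  obtain ⟨φ, hφ⟩ := Groth.Agent.H6.DerivedProd.Q_map_surjective_of_isKInjective E E'
    (e₁.inv ≫ a ≫ e₂.hom)
  have hd : Q.mapTriangle.obj (mappingCone.triangle φ) ∈ distTriang (Dual.D A) :=
    (mem_distTriang_iff _).2 ⟨_, _, φ, ⟨Iso.refl _⟩⟩
  let eT := isoTriangleOfIso₁₂ _ _ hd hT e₁.symm e₂.symm (by
    show Q.map φ ≫ e₂.inv = e₁.inv ≫ a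
    rw [hφ]
    simp)
  have hinv : Inv f (Q.obj (mappingCone φ)) := hZ.of_iso (Triangle.π₃.mapIso eT).symm
  have h1 := locEq_Q_homCxMap K φ hE hE' f hinv
  have e : (DRing.RHomCx K).map a = (DRing.RHomCx K).map e₁.hom ≫ (RHomCxIso K E hE).hom ≫
      Q.map (DRing.homCxMap K φ) ≫ (RHomCxIso K E' hE').inv ≫ (DRing.RHomCx K).map e₂.inv := by
    have nat := RHomCxIso_naturality K φ hE hE'
    have nat' : (DRing.RHomCx K).map (Q.map φ) = (RHomCxIso K E hE).hom ≫
        Q.map (DRing.homCxMap K φ) ≫ (RHomCxIso K E' hE').inv := by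
      rw [← Category.assoc, ← nat, Category.assoc, Iso.hom_inv_id, Category.comp_id]
    have h3 : a = e₁.hom ≫ Q.map φ ≫ e₂.inv := by
      rw [hφ]
      simp
    rw [h3, Functor.map_comp, Functor.map_comp, nat']
    simp only [Category.assoc]
  rw [e]
  exact (LocEq.of_isIso _ _).comp ((LocEq.of_isIso _ _).comp
    (h1.comp ((LocEq.of_isIso _ _).comp (LocEq.of_isIso _ _))))

/-- `RHom(K, M)` is derived `f`-complete if `M` is -/
theorem perp_RHomCx_obj (M : Dual.D A) (f : A) (hM : Perp f M) :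
    Perp f ((DRing.RHomCx K).obj M) := by
  obtain ⟨E, hE, -, ⟨e⟩⟩ := exists_rep M
  have h1 : Perp f (Q.obj E) := hM.of_iso e
  have h2 := perp_Q_homCx K E hE f h1
  exact h2.of_iso ((RHomCxIso K E hE).symm ≪≫ (DRing.RHomCx K).mapIso e.symm)

/-- `RHom(K, L^∧)` is the derived completion of `RHom(K, L)` -/
theorem derivedCompletion_RHomCx (I : Ideal A) (hI : I.FG) [DRing.HasDerivedCompletion I]
    (L : Dual.D A) :
    DRing.IsDerivedComplete I ((DRing.RHomCx K).obj ((DRing.derivedCompletion I).obj L).obj) ∧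
      LocEq (DRing.IsDerivedComplete I) ((DRing.RHomCx K).map (DRing.toDerivedCompletion I L)) := by
  classical
  obtain ⟨s, hs⟩ := hI
  have hfs : Ideal.span {x | x ∈ s.toList} = I := by
    rw [← hs]
    congr 1
    ext x
    simp
  constructor
  · rw [isDerivedComplete_iff_perp]
    intro f hf
    exact perp_RHomCx_obj K _ f ((isDerivedComplete_iff_perp I _).1
      ((DRing.derivedCompletion I).obj L).property f hf)
  · obtain ⟨C, η, hC, hu, hW⟩ := exists_completion_tower (A := A) nonempty_powData s.toList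
      (fun X Y a => LocEq (PerpL s.toList) ((DRing.RHomCx K).map a))
      (fun X => by
        show LocEq _ ((DRing.RHomCx K).map (𝟙 X))
        rw [CategoryTheory.Functor.map_id]
        exact LocEq.of_isIso _ _)
      (fun X Y Z a b ha hb => by
        show LocEq _ ((DRing.RHomCx K).map (a ≫ b))
        rw [Functor.map_comp]
        exact LocEq.comp ha hb)
      (fun f hf X Y Z a b c hT hZ =>
        LocEq.mono (fun M hM => hM f hf) (locEq_RHomCx_map K a b c hT f hZ)) L
    have hC' : DRing.IsDerivedComplete I C := by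
      rw [← hfs]
      exact (isDerivedComplete_iff_perpL _ C).2 hC
    obtain ⟨e, he⟩ := exists_iso_of_universal (DRing.IsDerivedComplete I)
      η (DRing.toDerivedCompletion I L) hC'
      ((DRing.derivedCompletion I).obj L).property
      (fun M hM h => hu M ((isDerivedComplete_iff_perpL _ M).1 (by rw [hfs]; exact hM)) h)
      (toDerivedCompletion_universal I L)
    rw [← he, Functor.map_comp]
    refine LocEq.comp (LocEq.mono (fun M hM => ?_) hW) (LocEq.of_isIso _ _)
    exact (isDerivedComplete_iff_perpL _ M).1 (by rw [hfs]; exact hM)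

end Groth.Agent.H9.DC
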