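import Mathlib
import Groth.Agent.H9.DC.HomPow
import Groth.Agent.H89.HomCxPre

/-!
# The telescope criterion: `Q Hom•(X, E)` is derived `g`-complete when the cohomology of `X` is
`g`-power torsion (helper9)
-/

set_option autoImplicit false
universe u

open CategoryTheory CategoryTheory.Limits

attribute [local instance] HasDerivedCategory.standard

namespace Groth.Agent.H9.DC

open Groth.Agent.H35 Groth.Agent.H9.RG DerivedCategory CochainComplex HomComplex

variable {A : Type u} [CommRing A]

section Modules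

variable (g : A) (M : Type*) [AddCommGroup M] [Module A M]

/-- `Ψ_g (e_k m) = e_k m - e_{k+1} (g m)` on `⨁_ℕ M`; its cokernel is `M_g` -/
noncomputable def Psi : (ℕ →₀ M) →ₗ[A] (ℕ →₀ M) :=
  LinearMap.id - g • Finsupp.lmapDomain M A Nat.succ

lemma Psi_single (k : ℕ) (m : M) :
    Psi g M (Finsupp.single k m) = Finsupp.single k m - Finsupp.single (k + 1) (g • m) := by
  simp [Psi, Finsupp.lmapDomain_apply, Finsupp.mapDomain_single]

lemma Psi_apply_zero (x : ℕ →₀ M) : Psi g M x 0 = x 0 := by
  have : (Finsupp.mapDomain Nat.succ x) 0 = 0 :=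
    Finsupp.mapDomain_notin_range _ _ (by simp)
  simp [Psi, Finsupp.lmapDomain_apply, this]

lemma Psi_apply_succ (x : ℕ →₀ M) (k : ℕ) : Psi g M x (k + 1) = x (k + 1) - g • x k := by
  have : (Finsupp.mapDomain Nat.succ x) (Nat.succ k) = x k :=
    Finsupp.mapDomain_apply Nat.succ_injective _ _
  simp only [Psi, LinearMap.sub_apply, LinearMap.id_coe, id_eq, LinearMap.smul_apply,
    Finsupp.lmapDomain_apply, Finsupp.coe_sub, Finsupp.coe_smul, Pi.sub_apply, Pi.smul_apply]
  rw [show k + 1 = Nat.succ k from rfl, this]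

lemma Psi_injective : Function.Injective (Psi g M) := by
  rw [← LinearMap.ker_eq_bot, LinearMap.ker_eq_bot']
  intro x hx
  ext k
  induction k with
  | zero =>
    have := congrArg (fun y : ℕ →₀ M => y 0) hx
    simpa [Psi_apply_zero] using this
  | succ k ih =>
    have := congrArg (fun y : ℕ →₀ M => y (k + 1)) hx
    simp only [Psi_apply_succ, Finsupp.coe_zero, Pi.zero_apply] at this
    rw [ih] at this
    simpa using this

lemma Psi_surjective (h : ∀ m : M, ∃ n : ℕ, g ^ n • m = 0) : Function.Surjective (Psi g M) := by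
  have key : ∀ (n : ℕ) (k : ℕ) (m : M), g ^ n • m = 0 →
      ∃ x, Psi g M x = Finsupp.single k m := by
    intro n
    induction n with
    | zero =>
      intro k m hm
      rw [pow_zero, one_smul] at hm
      exact ⟨0, by rw [hm]; simp⟩
    | succ n ih =>
      intro k m hm
      obtain ⟨x', hx'⟩ := ih (k + 1) (g • m) (by rw [← mul_smul, ← pow_succ]; exact hm)
      refine ⟨Finsupp.single k m + x', ?_⟩
      rw [map_add, hx', Psi_single]
      abel
  intro y
  induction y using Finsupp.induction_linear with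
  | zero => exact ⟨0, map_zero _⟩
  | add y y' hy hy' =>
    obtain ⟨x, hx⟩ := hy
    obtain ⟨x', hx'⟩ := hy'
    exact ⟨x + x', by rw [map_add, hx, hx']⟩
  | single k m =>
    obtain ⟨n, hn⟩ := h m
    exact key n k m hn

end Modules

/-- The functor `M ↦ ⨁_ℕ M`. -/
noncomputable def sumFunctor : ModuleCat.{u} A ⥤ ModuleCat.{u} A where
  obj M := ModuleCat.of A (ℕ →₀ M)
  map g := ModuleCat.ofHom (Finsupp.mapRange.linearMap g.hom)
  map_id M := by
    ext : 1
    exact Finsupp.mapRange.linearMap_id
  map_comp a b := by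
    ext : 1
    exact Finsupp.mapRange.linearMap_comp b.hom a.hom

instance : (sumFunctor (A := A)).Additive where
  map_add {M N a b} := by
    ext x : 2
    apply Finsupp.ext
    intro k
    rfl

lemma sumFunctor_map_exact (S : ShortComplex (ModuleCat.{u} A)) (hS : S.Exact) :
    (S.map sumFunctor).Exact := by
  classical
  rw [ShortComplex.moduleCat_exact_iff] at hS ⊢
  intro (x : ℕ →₀ S.X₂) hx
  have hx' : ∀ k, S.g (x k) = 0 := fun k => by
    have := congrArg (fun y : ℕ →₀ S.X₃ => y k) hx
    exact this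
  have : ∀ m : S.X₂, ∃ y : S.X₁, S.g m = 0 → S.f y = m := by
    intro m
    by_cases hm : S.g m = 0
    · obtain ⟨y, hy⟩ := hS m hm
      exact ⟨y, fun _ => hy⟩
    · exact ⟨0, fun h => absurd h hm⟩
  choose y hy using this
  let y' : S.X₂ → S.X₁ := fun m => if m = 0 then 0 else y m
  have hy'0 : y' 0 = 0 := by simp [y']
  refine ⟨(x.mapRange y' hy'0 : ℕ →₀ S.X₁), ?_⟩
  apply Finsupp.ext
  intro k
  show S.f (y' (x k)) = x k
  by_cases hk : x k = 0
  · simp [y', hk]
  · simp only [y', hk, if_false]
    exact hy _ (hx' k)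

instance : (sumFunctor (A := A)).PreservesHomology :=
  ((Functor.exact_tfae (sumFunctor (A := A))).out 1 2).mp sumFunctor_map_exact

/-- `Psi g` as a natural transformation. -/
noncomputable def PsiNat (g : A) : sumFunctor (A := A) ⟶ sumFunctor where
  app M := ModuleCat.ofHom (Psi g M)
  naturality M N a := by
    ext x : 2
    apply Finsupp.ext
    intro k
    show Psi g N ((sumFunctor.map a).hom x) k = a.hom (Psi g M x k)
    cases k with
    | zero => rw [Psi_apply_zero, Psi_apply_zero]; rfl
    | succ k =>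
      rw [Psi_apply_succ, Psi_apply_succ, map_sub, map_smul]
      rfl

/-- the inclusion of the `k`-th summand -/
noncomputable def inclK (k : ℕ) : 𝟭 (ModuleCat.{u} A) ⟶ sumFunctor (A := A) where
  app M := ModuleCat.ofHom (Finsupp.lsingle k)
  naturality M N a := by
    ext x : 2
    show Finsupp.single k (a.hom x) = Finsupp.mapRange a.hom (map_zero _) (Finsupp.single k x)
    rw [Finsupp.mapRange_single]

section Cx

variable (X : Cx A)

/-- the countable direct sum complex -/
noncomputable abbrev sumCx : Cx A := (sumFunctor.mapHomologicalComplex _).obj X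

/-- `Psi g` on the sum complex -/
noncomputable abbrev PsiCx (g : A) : sumCx X ⟶ sumCx X :=
  (NatTrans.mapHomologicalComplex (PsiNat g) _).app X

/-- the inclusion `X → ⨁_ℕ X` -/
noncomputable def inclCx (k : ℕ) : X ⟶ sumCx X :=
  (Functor.mapHomologicalComplexIdIso _ _).inv.app X ≫
    (NatTrans.mapHomologicalComplex (inclK (A := A) k) _).app X

lemma inclCx_f_apply (k : ℕ) (p : ℤ) (x : X.X p) :
    ((inclCx X k).f p).hom x = (Finsupp.single k x : ℕ →₀ X.X p) := rfl

lemma inclCx_PsiCx (g : A) (k : ℕ) :
    inclCx X k ≫ PsiCx X g = inclCx X k - g • inclCx X (k + 1) := by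
  ext p x
  show Psi g (X.X p) (Finsupp.single k x) = Finsupp.single k x - g • Finsupp.single (k + 1) x
  rw [Psi_single, Finsupp.smul_single]

lemma quasiIso_PsiCx (g : A) (h : ∀ n : ℤ, Function.Bijective (Psi g (X.homology n))) :
    QuasiIso (PsiCx X g) := by
  rw [quasiIso_iff]
  intro n
  rw [quasiIsoAt_iff, ShortComplex.quasiIso_iff]
  have h1 := NatTrans.app_homology (PsiNat g) (X.sc n)
  have h2 : IsIso ((PsiNat g).app (X.sc n).homology) := by
    rw [ConcreteCategory.isIso_iff_bijective]
    exact h n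
  have h3 : ShortComplex.homologyMap ((X.sc n).mapNatTrans (PsiNat g)) =
      ((X.sc n).mapHomologyIso sumFunctor).hom ≫ (PsiNat g).app (X.sc n).homology ≫
        ((X.sc n).mapHomologyIso sumFunctor).inv := by
    rw [h1]
    simp
  change IsIso (ShortComplex.homologyMap ((X.sc n).mapNatTrans (PsiNat g)))
  rw [h3]
  infer_instance

lemma quasiIso_PsiCx_of_torsion (g : A)
    (h : ∀ (n : ℤ) (x : X.homology n), ∃ k : ℕ, g ^ k • x = 0) : QuasiIso (PsiCx X g) :=
  quasiIso_PsiCx X g (fun n => ⟨Psi_injective g _, Psi_surjective g _ (h n)⟩)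

end Cx

end Groth.Agent.H9.DC
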