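import Mathlib
import Groth.Agent.H9.DC.Telescope
import Groth.Agent.H84.RHomUnit

/-!
# `Hom•(⨁_ℕ X, E) ≅ Hom•(X, E)^ℕ` and the telescope criterion (helper9)
-/

set_option autoImplicit false
universe u

open CategoryTheory CategoryTheory.Limits

attribute [local instance] HasDerivedCategory.standard

namespace Groth.Agent.H9.DC

open Groth.Agent.H35 Groth.Agent.H9.RG DerivedCategory CochainComplex HomComplex
open Groth.Agent.H89.HomCxPre (homCxPre)

variable {A : Type u} [CommRing A] (X E : Cx A)

/-- coordinates of a cochain on the sum complex -/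
noncomputable def cochainSumEquiv (n : ℤ) : Cochain (sumCx X) E n ≃ₗ[A] (ℕ → Cochain X E n) where
  toFun z k := (Cochain.ofHom (inclCx X k)).comp z (zero_add n)
  map_add' z z' := by
    funext k
    simp
  map_smul' a z := by
    funext k
    simp
  invFun w := Cochain.mk (fun p q hpq =>
    ModuleCat.ofHom (Finsupp.lsum A (fun k => ((w k).v p q hpq).hom)))
  left_inv z := by
    ext p q hpq y
    simp only [Cochain.mk_v, Cochain.zero_cochain_comp_v, Cochain.ofHom_v]
    let L : (ℕ →₀ X.X p) →ₗ[A] E.X q := (z.v p q hpq).hom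
    have hL : Finsupp.lsum A (fun k => L ∘ₗ (Finsupp.lsingle k)) = L := by
      apply Finsupp.lhom_ext
      intro k x
      rw [Finsupp.lsum_single]
      rfl
    exact congrArg (fun (F : (ℕ →₀ X.X p) →ₗ[A] E.X q) => F y) hL
  right_inv w := by
    funext k
    ext p q hpq x
    simp only [Cochain.mk_v, Cochain.zero_cochain_comp_v, Cochain.ofHom_v]
    change (Finsupp.lsum A (fun k => ((w k).v p q hpq).hom)) (Finsupp.single k x) = _
    rw [Finsupp.lsum_single]

lemma cochainSumEquiv_apply (n : ℤ) (z : Cochain (sumCx X) E n) (k : ℕ) :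
    cochainSumEquiv X E n z k = (Cochain.ofHom (inclCx X k)).comp z (zero_add n) := rfl

/-- `Hom•(⨁_ℕ X, E) ≅ Hom•(X, E)^ℕ` -/
noncomputable def homSumIso : DRing.homCx (sumCx X) E ≅ powCx (DRing.homCx X E) :=
  HomologicalComplex.Hom.isoOfComponents
    (fun n => (cochainSumEquiv X E n).toModuleIso) (by
      intro i j _
      ext z
      funext k
      show δ i j (cochainSumEquiv X E i z k) = (cochainSumEquiv X E j (δ i j z)) k
      rw [cochainSumEquiv_apply, cochainSumEquiv_apply]
      exact δ_ofHom_comp (inclCx X k) z j)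

/-- compatibility of `homSumIso` with `Psi` and `Phi` -/
lemma homSumIso_Psi (g : A) :
    homCxPre (PsiCx X g) E ≫ (homSumIso X E).hom =
      (homSumIso X E).hom ≫ PhiCx (DRing.homCx X E) g := by
  ext n z
  funext k
  show (Cochain.ofHom (inclCx X k)).comp
      ((Cochain.ofHom (PsiCx X g)).comp (z : Cochain (sumCx X) E n) (zero_add n)) (zero_add n) =
    (Cochain.ofHom (inclCx X k)).comp z (zero_add n) -
      g • (Cochain.ofHom (inclCx X (k + 1))).comp z (zero_add n)
  rw [← Cochain.comp_assoc_of_first_is_zero_cochain, ← Cochain.ofHom_comp, inclCx_PsiCx,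
    Cochain.ofHom_sub, Cochain.sub_comp]
  congr 1
  have : Cochain.ofHom (g • inclCx X (k + 1)) = g • Cochain.ofHom (inclCx X (k + 1)) := by
    ext p
    simp
  rw [this, Cochain.smul_comp]

/-- **telescope criterion**: if the cohomology of `X` is `g`-power torsion and `E` is K-injective,
then `Q Hom•(X, E)` is derived `g`-complete -/
theorem perp_Q_homCx_of_torsion (hE : E.IsKInjective) (g : A)
    (h : ∀ (n : ℤ) (x : X.homology n), ∃ k : ℕ, g ^ k • x = 0) :
    Perp g (Q.obj (DRing.homCx X E)) := by
  haveI := hE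
  haveI : QuasiIso (PsiCx X g) := quasiIso_PsiCx_of_torsion X g h
  have hq : QuasiIso (Groth.Agent.H84.RHom.homCxPre (PsiCx X g) E) :=
    Groth.Agent.H84.RHom.quasiIso_homCxPre_of_isKInjective (PsiCx X g) E
  have he : Groth.Agent.H84.RHom.homCxPre (PsiCx X g) E = homCxPre (PsiCx X g) E := rfl
  rw [he] at hq
  apply perp_Q_of_quasiIso_PhiCx
  have e : PhiCx (DRing.homCx X E) g =
      (homSumIso X E).inv ≫ homCxPre (PsiCx X g) E ≫ (homSumIso X E).hom := by
    rw [homSumIso_Psi, Iso.inv_hom_id_assoc]
  rw [e]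
  infer_instance

end Groth.Agent.H9.DC
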