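import Mathlib
import Groth.Agent.H9.DC.TelescopeHom
import Groth.Agent.H9.DC.HomCone

/-!
# `Hom•(-, E)` and mapping cocones (helper9)

For `φ : C ⟶ D` with `f` invertible on `D`, the map `Q Hom•(C, E) ⟶ Q Hom•(cocone φ, E)` induced
by the projection `cocone φ ⟶ C` is a local equivalence for derived `f`-complete objects.
-/

set_option autoImplicit false
universe u

open CategoryTheory CategoryTheory.Limits CategoryTheory.Pretriangulated

attribute [local instance] HasDerivedCategory.standard

namespace Groth.Agent.H9.DC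

open Groth.Agent.H9.RG DerivedCategory CochainComplex HomComplex
open Groth.Agent.H89.HomCxPre

variable {A : Type u} [CommRing A] {C D : Cx A} (φ : C ⟶ D) (E : Cx A)

lemma inr_shift_f (n : ℤ) :
    ((mappingCone.inr φ)⟦(-1 : ℤ)⟧').f n =
      (mappingCocone.inr φ).1.v (n + -1) n (by omega) := by
  show (mappingCone.inr φ).f (n + -1) =
    ((Cochain.ofHom (mappingCone.inr φ)).rightShift (-1) 1 (by omega)).v (n + -1) n (by omega)
  rw [Cochain.rightShift_v _ (-1) 1 (by omega) (n + -1) n (by omega) (n + -1) (add_zero _)]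
  simp only [shiftFunctorObjXIso, HomologicalComplex.XIsoOfEq_rfl, Iso.refl_inv, Cochain.ofHom_v]
  exact (Category.comp_id _).symm

/-- the degreewise split short exact sequence `D[-1] → cocone φ → C` -/
noncomputable def coconeSC : ShortComplex (Cx A) :=
  ShortComplex.mk ((mappingCone.inr φ)⟦(-1 : ℤ)⟧') (mappingCocone.fst φ) (by
    apply HomologicalComplex.hom_ext
    intro n
    simp only [HomologicalComplex.comp_f, HomologicalComplex.zero_f]
    rw [inr_shift_f]
    exact mappingCocone.inr_v_fst_f φ (n + -1) n (by omega))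

noncomputable def coconeSCSplitting (n : ℤ) :
    ((coconeSC φ).map (HomologicalComplex.eval _ _ n)).Splitting where
  r := (mappingCocone.snd φ).v n (n + -1) rfl
  s := (mappingCocone.inl φ).v n n (add_zero n)
  f_r := by
    have h := mappingCocone.inr_v_snd_v φ (n + -1) n (by omega)
    rw [← inr_shift_f] at h
    exact h
  s_g := mappingCocone.inl_v_fst_f φ n
  id := by
    have h := mappingCocone.id_X φ n (n + -1) rfl
    rw [← inr_shift_f, add_comm] at h
    exact h

lemma homShortComplex_shortExact (S : ShortComplex (Cx A))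
    (σ : ∀ n, (S.map (HomologicalComplex.eval _ _ n)).Splitting) :
    (homShortComplex S E).ShortExact := by
  apply HomologicalComplex.shortExact_of_degreewise_shortExact
  intro n
  exact (homShortComplexSplitting S σ E n).shortExact

/-- `Hom•(-, E)` is linear in the first variable -/
lemma homCxPre_smul_id (Y : Cx A) (f : A) :
    homCxPre (f • 𝟙 Y) E = f • 𝟙 (DRing.homCx Y E) := by
  ext n z
  show (Cochain.ofHom (f • 𝟙 Y)).comp (z : Cochain Y E n) (zero_add n) = f • z
  have : Cochain.ofHom (f • 𝟙 Y) = f • Cochain.ofHom (𝟙 Y) := by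
    ext p
    simp
  rw [this, Cochain.smul_comp, Cochain.id_comp]
  rfl

lemma isIso_homCxPre {Y Y' : Cx A} (u : Y ⟶ Y') [IsIso u] : IsIso (homCxPre u E) :=
  ⟨homCxPre (inv u) E, by
    rw [← homCxPre_comp, IsIso.inv_hom_id, homCxPre_id], by
    rw [← homCxPre_comp, IsIso.hom_inv_id, homCxPre_id]⟩

/-- `Q Hom•(Y, E)` is `f`-local when `f` is invertible on the complex `Y` -/
lemma inv_Q_homCx_of_isIso (Y : Cx A) (f : A) (hY : IsIso (f • 𝟙 Y)) :
    Inv f (Q.obj (DRing.homCx Y E)) := by
  have h1 : IsIso (f • 𝟙 (DRing.homCx Y E)) := by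
    rw [← homCxPre_smul_id]
    exact isIso_homCxPre E _
  show IsIso (f • 𝟙 (Q.obj (DRing.homCx Y E)))
  have h2 : Q.map (f • 𝟙 (DRing.homCx Y E)) = f • 𝟙 (Q.obj (DRing.homCx Y E)) := by
    rw [Functor.map_smul, CategoryTheory.Functor.map_id]
  rw [← h2]
  infer_instance

lemma isIso_smul_shift (Y : Cx A) (f : A) (hY : IsIso (f • 𝟙 Y)) (n : ℤ) :
    IsIso (f • 𝟙 (Y⟦n⟧)) := by
  have : f • 𝟙 (Y⟦n⟧) = (f • 𝟙 Y)⟦n⟧' := by
    ext p
    rfl
  rw [this]
  infer_instance

/-- the key local equivalence for one step of the Čech tower -/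
theorem locEq_Q_homCxPre_fst (f : A) (hD : IsIso (f • 𝟙 D)) :
    LocEq (Perp f (T := Dual.D A)) (Q.map (homCxPre (mappingCocone.fst φ) E)) := by
  have hS : (homShortComplex (coconeSC φ) E).ShortExact :=
    homShortComplex_shortExact E _ (coconeSCSplitting φ)
  have hd := triangleOfSES_distinguished hS
  have hinv : Inv f (Q.obj (DRing.homCx (D⟦(-1 : ℤ)⟧) E)) :=
    inv_Q_homCx_of_isIso E _ f (isIso_smul_shift D f hD (-1))
  intro M hM
  exact bijective_precomp_of_inv_cone _ _ _ hd f hinv hM

end Groth.Agent.H9.DC
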