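import Mathlib
import Groth.Agent.H9.DC.HomCocone
import Groth.Agent.H9.DC.Cone
import Groth.Agent.H9.RG.NoethD
import Groth.Agent.H46.ExtCechTorsion
import Groth.Agent.H89.HomCxKFlat
import Groth.Prelude.Def_DerCA

/-!
# Derived completion is `RHom(Čech, -)` (helper9)
-/

set_option autoImplicit false
universe u

open CategoryTheory CategoryTheory.Limits CategoryTheory.Pretriangulated

attribute [local instance] HasDerivedCategory.standard

namespace Groth.Agent.H9.DC

open Groth.Agent.H9.RG DerivedCategory CochainComplex HomComplex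
open Groth.Agent.H89.HomCxPre

variable {A : Type u} [CommRing A]

/-- `f` acts invertibly on the termwise localisation at `f` -/
lemma isIso_smul_locCx (f : A) (C : Cx A) :
    IsIso (f • 𝟙 ((DerCA.locCx (Submonoid.powers f)).obj C)) := by
  have : ∀ n, IsIso ((f • 𝟙 ((DerCA.locCx (Submonoid.powers f)).obj C)).f n) := by
    intro n
    rw [ConcreteCategory.isIso_iff_bijective]
    have hu := IsLocalizedModule.map_units
      (LocalizedModule.mkLinearMap (Submonoid.powers f) (C.X n)) ⟨f, Submonoid.mem_powers f⟩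
    exact (Module.End.isUnit_iff _).1 hu
  exact HomologicalComplex.Hom.isIso_of_components _

variable (M : ModuleCat.{u} A)

/-- the projection of the extended Čech complex onto its degree-zero part `M[0]` -/
noncomputable def cechProj : ∀ fs : List A, DerCA.extCech M fs ⟶ DerCA.extCech M []
  | [] => 𝟙 _
  | f :: fs =>
    (mappingCocone.fst (DerCA.locCxUnit (Submonoid.powers f) (DerCA.extCech M fs)) :
      DerCA.extCech M (f :: fs) ⟶ DerCA.extCech M fs) ≫ cechProj fs

/-- the Čech tower is a local equivalence for `PerpL L` whenever `fs ⊆ L` -/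
theorem locEq_Q_homCxPre_cechProj (E : Cx A) (L : List A) :
    ∀ fs : List A, (∀ f ∈ fs, f ∈ L) →
      LocEq (PerpL L (T := Dual.D A)) (Q.map (homCxPre (cechProj M fs) E)) := by
  intro fs
  induction fs with
  | nil =>
    intro _
    have : homCxPre (cechProj M []) E = 𝟙 _ := homCxPre_id _ _
    rw [this, CategoryTheory.Functor.map_id]
    exact LocEq.of_isIso _ _
  | cons f fs ih =>
    intro hfs
    have h1 := ih (fun g hg => hfs g (List.mem_cons_of_mem _ hg))
    have h2 := locEq_Q_homCxPre_fst (DerCA.locCxUnit (Submonoid.powers f) (DerCA.extCech M fs)) E f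
      (isIso_smul_locCx f _)
    show LocEq (PerpL L (T := Dual.D A)) (Q.map (homCxPre
      (mappingCocone.fst (DerCA.locCxUnit (Submonoid.powers f) (DerCA.extCech M fs)) ≫
        cechProj M fs) E))
    rw [homCxPre_comp, Functor.map_comp]
    exact LocEq.comp h1 (LocEq.mono (fun N hN => hN f (hfs f List.mem_cons_self)) h2)

/-- `Q Hom•(Čech(fs), E)` is derived complete -/
theorem perpL_Q_homCx_extCech (E : Cx A) (hE : E.IsKInjective) (fs : List A) :
    PerpL fs (Q.obj (DRing.homCx (DerCA.extCech M fs) E)) := by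
  intro f hf
  exact perp_Q_homCx_of_torsion _ E hE f
    (fun n x => Groth.Agent.H46.extCech_homology_torsion M fs f hf n x)

/-- **the derived completion is `RHom(Čech, -)`** -/
theorem nonempty_derivedCompletion_iso_RHomCx_extCech (fs : List A) (I : Ideal A)
    (hI : Ideal.span {x : A | x ∈ fs} = I) [DRing.HasDerivedCompletion I]
    [DRing.HasRHomCx (DerCA.extCech (ModuleCat.of A A) fs)] (K : Dual.D A) :
    Nonempty (((DRing.derivedCompletion I).obj K).obj ≅
      (DRing.RHomCx (DerCA.extCech (ModuleCat.of A A) fs)).obj K) := by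
  subst hI
  obtain ⟨E, hE, -, ⟨e⟩⟩ := exists_rep K
  let Č := DerCA.extCech (ModuleCat.of A A) fs
  let b : K ≅ Q.obj (DRing.homCx (DerCA.extCech (ModuleCat.of A A) []) E) :=
    e ≪≫ (Q.mapIso (asIso (Groth.Agent.H89.HomCxKFlat.toShift E 0) ≪≫
      (shiftFunctorZero (Cx A) ℤ).app E)).symm
  let η : K ⟶ Q.obj (DRing.homCx Č E) :=
    b.hom ≫ Q.map (homCxPre (cechProj (ModuleCat.of A A) fs) E)
  have hη : LocEq (PerpL fs (T := Dual.D A)) η :=
    LocEq.comp (LocEq.of_isIso _ _)
      (locEq_Q_homCxPre_cechProj (ModuleCat.of A A) E fs fs (fun f hf => hf))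
  have hC : PerpL fs (Q.obj (DRing.homCx Č E)) := perpL_Q_homCx_extCech _ E hE fs
  have hC' : DRing.IsDerivedComplete (Ideal.span {x : A | x ∈ fs}) (Q.obj (DRing.homCx Č E)) :=
    (isDerivedComplete_iff_perpL fs _).2 hC
  obtain ⟨i, -⟩ := exists_iso_of_universal
    (DRing.IsDerivedComplete (Ideal.span {x : A | x ∈ fs}))
    (DRing.toDerivedCompletion _ K) η
    ((DRing.derivedCompletion _).obj K).property hC'
    (toDerivedCompletion_universal _ K)
    (fun N hN h => hη.universal N ((isDerivedComplete_iff_perpL fs N).1 hN) h)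
  exact ⟨i ≪≫ (Groth.Agent.H84.RHom.RHomCxIso Č E hE).symm ≪≫
    (DRing.RHomCx Č).mapIso e.symm⟩

end Groth.Agent.H9.DC
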