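import Mathlib
import Groth.Agent.H9.DC.Cone

/-!
# Homology of a cone versus epi/mono on homology (helper9)
-/

set_option autoImplicit false
universe u

open CategoryTheory CategoryTheory.Limits CategoryTheory.Pretriangulated

attribute [local instance] HasDerivedCategory.standard

namespace Groth.Agent.H9.DC

open DerivedCategory

variable {A : Type u} [CommRing A]

variable {K L Z : Dual.D A} (φ : K ⟶ L) (g : L ⟶ Z) (h : Z ⟶ K⟦(1 : ℤ)⟧)
  (hT : Triangle.mk φ g h ∈ distTriang (Dual.D A))

include hT

lemma subsingleton_HD_cone (i j : ℤ) (hij : i + 1 = j)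
    (hepi : Epi ((DerivedCategory.homologyFunctor (ModuleCat.{u} A) i).map φ))
    (hmono : Mono ((DerivedCategory.homologyFunctor (ModuleCat.{u} A) j).map φ)) :
    Subsingleton (Dual.HD A Z i) := by
  have h1 : (DerivedCategory.homologyFunctor (ModuleCat.{u} A) i).map g = 0 :=
    (HomologySequence.epi_homologyMap_mor₁_iff _ hT i).1 hepi
  have h2 : HomologySequence.δ (Triangle.mk φ g h) i j hij = 0 :=
    (HomologySequence.mono_homologyMap_mor₁_iff _ hT i j hij).1 hmono
  have hex := HomologySequence.exact₃ _ hT i j hij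
  have hm : Mono (HomologySequence.δ (Triangle.mk φ g h) i j hij) := hex.mono_g h1
  have hz : IsZero ((DerivedCategory.homologyFunctor (ModuleCat.{u} A) i).obj Z) :=
    @IsZero.of_mono_eq_zero _ _ _ _ _ (HomologySequence.δ (Triangle.mk φ g h) i j hij) hm h2
  exact ModuleCat.subsingleton_of_isZero hz

lemma epi_of_subsingleton_HD_cone (i : ℤ) (hZ : Subsingleton (Dual.HD A Z i)) :
    Epi ((DerivedCategory.homologyFunctor (ModuleCat.{u} A) i).map φ) := by
  apply (HomologySequence.epi_homologyMap_mor₁_iff (Triangle.mk φ g h) hT i).2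
  exact (ModuleCat.isZero_of_subsingleton (ModuleCat.of A (Dual.HD A Z i))).eq_of_tgt _ _

lemma mono_of_subsingleton_HD_cone (i j : ℤ) (hij : i + 1 = j)
    (hZ : Subsingleton (Dual.HD A Z i)) :
    Mono ((DerivedCategory.homologyFunctor (ModuleCat.{u} A) j).map φ) := by
  apply (HomologySequence.mono_homologyMap_mor₁_iff (Triangle.mk φ g h) hT i j hij).2
  exact (ModuleCat.isZero_of_subsingleton (ModuleCat.of A (Dual.HD A Z i))).eq_of_src _ _

end Groth.Agent.H9.DC
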